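import Cfsg.Agent.Lib.TICount.Basic
import Cfsg.Agent.Lib.SmallGroups.Counting

/-!
# The action on the conjugates of `M`
-/

set_option autoImplicit false
set_option linter.unusedSectionVars false

namespace Cfsg.Agent.Lib.TICount

open Cfsg.Agent.Lib.Involutions.Basic
open MulAction

variable {G : Type*} [Group G] {M : Subgroup G} {z : G}

local notation "N" => Subgroup.normalizer (M : Set G)
local notation "Ω" => G ⧸ Subgroup.normalizer (M : Set G)

/-- The point corresponding to `M` itself. -/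
def base (M : Subgroup G) : G ⧸ Subgroup.normalizer (M : Set G) := QuotientGroup.mk 1

theorem smul_base_eq_mk (g : G) : g • base M = (QuotientGroup.mk g : Ω) := by
  rw [base, MulAction.Quotient.smul_mk, smul_eq_mul, mul_one]

theorem smul_base_eq_iff (g : G) : g • base M = base M ↔ g ∈ N := by
  rw [smul_base_eq_mk, base, QuotientGroup.eq]
  simp

theorem exists_smul_base (p : Ω) : ∃ g : G, g • base M = p := by
  obtain ⟨g, rfl⟩ := QuotientGroup.mk_surjective p
  exact ⟨g, smul_base_eq_mk g⟩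

theorem smul_eq_smul_iff (a b : G) : a • base M = b • base M ↔ b⁻¹ * a ∈ N := by
  rw [← smul_base_eq_iff, mul_smul, inv_smul_eq_iff]

/-- The centralizer of `z` moves the base point only by involutions outside the normalizer. -/
def Mover (M : Subgroup G) (z g : G) : Prop :=
  g * z = z * g ∧ g ∉ Subgroup.normalizer (M : Set G)

section

variable [Finite G] (h : Hyp M z)
include h

theorem Hyp.rep {p : Ω} (hp : p ≠ base M) : ∃ g, Mover M z g ∧ ∃ x ∈ M, x • g • base M = p := by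
  obtain ⟨a, rfl⟩ := exists_smul_base p
  have haN : a ∉ N := fun hm => hp ((smul_base_eq_iff a).2 hm)
  obtain ⟨u, hu, hum⟩ := h.exists_invol_coset haN
  have huN : u ∉ N := fun hm => haN (by
    rw [show a = u * (a⁻¹ * u)⁻¹ by group]
    exact mul_mem hm (inv_mem (h.le_N hum)))
  obtain ⟨x0, hx0, hd⟩ := h.swap_lift hu huN h.hzN
  rw [inv_eq_of_mul_eq_one_right (b := z * x0)
    (by rw [← mul_assoc, h.z_inv hx0, inv_mul_cancel])] at hd
  obtain ⟨y, hy, hyy⟩ := h.exists_sq (inv_mem hx0)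
  have hcz : y * z * y⁻¹ = z * x0 := by
    have h1 := h.z_inv hy
    calc y * z * y⁻¹ = z * (z * y * z) * y⁻¹ := by rw [← mul_assoc, ← mul_assoc, h.z_sq, one_mul]
      _ = z * (y * y)⁻¹ := by rw [h1, mul_inv_rev]; group
      _ = z * x0 := by rw [hyy, inv_inv]
  have huc : u * (y * z * y⁻¹) = y * z * y⁻¹ * u := by
    rw [hcz]
    calc u * (z * x0) = u * (z * x0) * (u * u) := by rw [invol_mul_self hu, mul_one]
      _ = u * (z * x0) * u * u := by group
      _ = z * x0 * u := by rw [hd]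
  refine ⟨y⁻¹ * u * y, ⟨?_, fun hm => huN ?_⟩, y, hy, ?_⟩
  · calc y⁻¹ * u * y * z = y⁻¹ * (u * (y * z * y⁻¹)) * y := by group
      _ = z * (y⁻¹ * u * y) := by rw [huc]; group
  · have := mul_mem (mul_mem (h.le_N hy) hm) (inv_mem (h.le_N hy))
    simpa [mul_assoc] using this
  · rw [← mul_smul, mul_assoc y⁻¹, mul_inv_cancel_left, mul_smul,
      (smul_base_eq_iff y).2 (h.le_N hy), smul_eq_smul_iff]
    have : a⁻¹ * u ∈ N := h.le_N hum
    exact this

theorem Hyp.free {x : G} (hx : x ∈ M) {p : Ω} (hp : p ≠ base M) (hfix : x • p = p) : x = 1 := by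
  obtain ⟨g, ⟨hgz, hgN⟩, y, hy, rfl⟩ := h.rep hp
  rw [← mul_smul, h.comm hx hy, mul_smul, smul_left_cancel_iff, ← mul_smul,
    smul_eq_smul_iff] at hfix
  have hg := (h.point_swap hgz hgN).1
  refine h.meet hg hgN hx ?_
  rw [invol_inv hg, ← mul_assoc] at hfix
  exact hfix

theorem Hyp.z_fix_mover {g : G} (hg : Mover M z g) : z • g • base M = g • base M := by
  rw [← mul_smul, ← hg.1, mul_smul, (smul_base_eq_iff z).2 h.hzN]

omit [Finite G] in
theorem Hyp.mover_ne {g : G} (hg : Mover M z g) : g • base M ≠ base M := fun e =>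
  hg.2 ((smul_base_eq_iff g).1 e)

theorem Hyp.fixed_uniq {x : G} (hx : x ∈ M) {p : Ω} (hp : p ≠ base M) (hzp : z • p = p)
    (hzxp : z • x • p = x • p) : x = 1 := by
  have hzx : z * x = x⁻¹ * z := by
    rw [← h.z_inv hx, mul_assoc, h.z_sq, mul_one]
  refine h.eq_one_of_sq hx (h.free (mul_mem hx hx) hp ?_)
  rw [← mul_smul, hzx, mul_smul, hzp, inv_smul_eq_iff, ← mul_smul] at hzxp
  exact hzxp.symm

theorem Hyp.exists_fixed_translate {p : Ω} (hp : p ≠ base M) :
    ∃ x ∈ M, ∃ q : Ω, q ≠ base M ∧ z • q = q ∧ x • q = p := by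
  obtain ⟨g, hg, x, hx, e⟩ := h.rep hp
  exact ⟨x, hx, _, h.mover_ne hg, h.z_fix_mover hg, e⟩

theorem Hyp.card_points :
    Nat.card Ω = Nat.card {q : Ω // q ≠ base M ∧ z • q = q} * Nat.card M + 1 := by
  classical
  have := Fintype.ofFinite Ω
  let f : {q : Ω // q ≠ base M ∧ z • q = q} × M → {p : Ω // p ≠ base M} := fun w =>
    ⟨(w.2 : G) • w.1.1, fun e => w.1.2.1 (by
      rw [← inv_smul_smul (w.2 : G) w.1.1, e, (smul_base_eq_iff _).2 (inv_mem (h.le_N w.2.2))])⟩
  have hbij : Function.Bijective f := by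
    refine ⟨?_, ?_⟩
    · rintro ⟨⟨q, hq, hzq⟩, ⟨x, hx⟩⟩ ⟨⟨q', hq', hzq'⟩, ⟨x', hx'⟩⟩ e
      have e' : x • q = x' • q' := congrArg Subtype.val e
      have hq'e : (x'⁻¹ * x) • q = q' := by rw [mul_smul, e', inv_smul_smul]
      have h1 := h.fixed_uniq (mul_mem (inv_mem hx') hx) hq hzq (by rw [hq'e]; exact hzq')
      rw [h1, one_smul] at hq'e
      obtain rfl : x' = x := inv_mul_eq_one.1 h1
      subst hq'e
      rfl
    · rintro ⟨p, hp⟩
      obtain ⟨x, hx, q, hq, hzq, e⟩ := h.exists_fixed_translate hp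
      exact ⟨⟨⟨q, hq, hzq⟩, ⟨x, hx⟩⟩, Subtype.ext e⟩
  have h1 := Nat.card_congr (Equiv.ofBijective f hbij)
  rw [Nat.card_prod] at h1
  rw [h1, Nat.card_eq_fintype_card, Nat.card_eq_fintype_card, Fintype.card_subtype_compl,
    Fintype.card_subtype_eq, Nat.sub_add_cancel (Fintype.card_pos_iff.2 ⟨base M⟩)]

theorem Hyp.card_normalizer : Nat.card N = Nat.card M * Nat.card (D M z) := by
  rw [← Nat.card_prod]
  refine (Nat.card_eq_of_bijective (fun w : M × D M z => (⟨(w.1 : G) * w.2,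
    mul_mem (h.le_N w.1.2) (D_le w.2.2)⟩ : N)) ⟨?_, ?_⟩).symm
  · rintro ⟨⟨x, hx⟩, ⟨d, hd⟩⟩ ⟨⟨x', hx'⟩, ⟨d', hd'⟩⟩ e
    have e' : x * d = x' * d' := congrArg Subtype.val e
    have e2 : x'⁻¹ * x = d' * d⁻¹ := by
      calc x'⁻¹ * x = x'⁻¹ * (x * d) * d⁻¹ := by group
        _ = d' * d⁻¹ := by rw [e']; group
    have h1 := h.D_inter (mul_mem hd' (inv_mem hd)) (e2 ▸ mul_mem (inv_mem hx') hx)
    obtain rfl : d' = d := mul_inv_eq_one.1 h1
    obtain rfl : x = x' := mul_right_cancel e'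
    rfl
  · rintro ⟨g, hg⟩
    obtain ⟨x, hx, d, hd, e⟩ := h.decomp hg
    exact ⟨(⟨x, hx⟩, ⟨d, hd⟩), Subtype.ext e.symm⟩

theorem Hyp.card_group : Nat.card G = Nat.card Ω * (Nat.card M * Nat.card (D M z)) := by
  rw [← h.card_normalizer, ← Subgroup.index_eq_card, Subgroup.index_mul_card]

theorem Hyp.index_eq : M.index = Nat.card Ω * Nat.card (D M z) := by
  have h1 := Subgroup.card_mul_index M
  rw [h.card_group] at h1
  exact Nat.eq_of_mul_eq_mul_left Nat.card_pos (h1.trans (by ring))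

theorem Hyp.mk_D_injective :
    Function.Injective fun d : D M z => (QuotientGroup.mk (d : G) : G ⧸ M) := by
  intro a b e
  exact Subtype.ext (inv_mul_eq_one.1
    (h.D_inter (mul_mem (inv_mem a.2) b.2) (QuotientGroup.eq.1 e)))

theorem Hyp.mk_invol_ne {i : G} (hiN : i ∉ N) {g : G} (hg : g ∈ N) :
    (QuotientGroup.mk i : G ⧸ M) ≠ QuotientGroup.mk g := fun e =>
  hiN (by simpa using mul_mem hg (h.le_N (inv_mem (QuotientGroup.eq.1 e))))

theorem Hyp.card_invol_le : Nat.card {g : G // orderOf g = 2} + Nat.card (D M z) ≤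
    Nat.card M + M.index := by
  classical
  rw [Subgroup.index_eq_card, ← Nat.card_sum, ← Nat.card_sum]
  let f : {g : G // orderOf g = 2} ⊕ D M z → M ⊕ G ⧸ M := Sum.elim
    (fun i => if hi : i.1 ∈ N then Sum.inl ⟨z * i.1, h.invol_N i.2 hi⟩
      else Sum.inr (QuotientGroup.mk i.1))
    (fun d => Sum.inr (QuotientGroup.mk (d : G)))
  refine Nat.card_le_card_of_injective f ?_
  rintro (i | d) (j | d') e
  · by_cases hi : i.1 ∈ N <;> by_cases hj : j.1 ∈ N <;>
      simp only [f, Sum.elim_inl, hi, hj, ↓reduceDIte, Sum.inl.injEq, Sum.inr.injEq,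
        reduceCtorEq, Subtype.mk.injEq] at e
    · exact congrArg _ (Subtype.ext (mul_left_cancel e))
    · refine congrArg _ (Subtype.ext (h.notMem_N_uniq i.2 j.2 hi ?_))
      have := QuotientGroup.eq.1 e
      rwa [invol_inv i.2] at this
  · by_cases hi : i.1 ∈ N <;>
      simp only [f, Sum.elim_inl, Sum.elim_inr, hi, ↓reduceDIte, Sum.inr.injEq, reduceCtorEq] at e
    exact absurd e (h.mk_invol_ne hi (D_le d'.2))
  · by_cases hj : j.1 ∈ N <;>
      simp only [f, Sum.elim_inl, Sum.elim_inr, hj, ↓reduceDIte, Sum.inr.injEq, reduceCtorEq] at e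
    exact absurd e.symm (h.mk_invol_ne hj (D_le d.2))
  · simp only [f, Sum.elim_inr, Sum.inr.injEq] at e
    exact congrArg _ (h.mk_D_injective e)

theorem Hyp.card_D_lt : Nat.card (D M z) < Nat.card M := by
  classical
  by_contra hle
  push Not at hle
  have := Fintype.ofFinite M
  have := Fintype.ofFinite (D M z)
  obtain ⟨j⟩ : Nonempty (M ↪ D M z) := Function.Embedding.nonempty_of_card_le (by
    rwa [← Nat.card_eq_fintype_card, ← Nat.card_eq_fintype_card])
  let f : {g : G // orderOf g = 2} → G ⧸ M := fun i =>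
    if hi : i.1 ∈ N then QuotientGroup.mk (j ⟨z * i.1, h.invol_N i.2 hi⟩ : G)
    else QuotientGroup.mk i.1
  have hinj : Function.Injective f := by
    intro i k e
    by_cases hi : i.1 ∈ N <;> by_cases hk : k.1 ∈ N <;> simp only [f, hi, hk, ↓reduceDIte] at e
    · exact Subtype.ext (mul_left_cancel (congrArg Subtype.val (j.injective (h.mk_D_injective e))))
    · exact absurd e.symm (h.mk_invol_ne hk (D_le (j _).2))
    · exact absurd e (h.mk_invol_ne hi (D_le (j _).2))
    · refine Subtype.ext (h.notMem_N_uniq i.2 k.2 hi ?_)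
      have := QuotientGroup.eq.1 e
      rwa [invol_inv i.2] at this
  have h1 := Nat.card_le_card_of_injective f hinj
  rw [← Subgroup.index_eq_card] at h1
  exact absurd h.many (by omega)

theorem Hyp.class_le : Nat.card {g : G // IsConj z g} ≤ Nat.card {g : G // orderOf g = 2} := by
  refine Nat.card_le_card_of_injective (fun g => ⟨g.1, ?_⟩) fun a b e =>
    Subtype.ext (congrArg Subtype.val e :)
  obtain ⟨c, hc⟩ := isConj_iff.1 g.2
  rw [← hc, orderOf_conj_eq, h.hz]

theorem Hyp.class_mul : Nat.card {g : G // IsConj z g} *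
    Nat.card ↥(Subgroup.centralizer ({z} : Set G)) =
      Nat.card Ω * (Nat.card M * Nat.card (D M z)) := by
  rw [SmallGroups.Counting.card_isConj_mul, h.card_group]

theorem Hyp.dichotomy :
    (∀ g g' : G, Mover M z g → Mover M z g' → g * g' ∈ N) ∨
      ((∀ d ∈ D M z, d = 1 ∨ d = z) ∧ ∀ g : G, g * z = z * g → g * g = 1) := by
  refine or_iff_not_imp_left.2 fun hne => ?_
  push Not at hne
  obtain ⟨g, g', hg, hg', hw⟩ := hne
  have hwz : g * g' * z = z * (g * g') := by
    rw [mul_assoc, hg'.1, ← mul_assoc, hg.1, mul_assoc]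
  obtain ⟨hgo, hginv⟩ := h.point_swap hg.1 hg.2
  obtain ⟨hg'o, hg'inv⟩ := h.point_swap hg'.1 hg'.2
  obtain ⟨hwo, hwinv⟩ := h.point_swap hwz hw
  have hD : ∀ d ∈ D M z, d = 1 ∨ d = z := by
    intro d hd
    have e : g * g' = g' * g := by
      have h1 := invol_inv hwo
      rw [mul_inv_rev, invol_inv hgo, invol_inv hg'o] at h1
      exact h1.symm
    have h2 : d⁻¹ = d := by
      rw [← hwinv d hd]
      calc g * g' * d * (g * g') = g * g' * d * (g' * g) := by rw [← e]
        _ = g * (g' * d * g') * g := by group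
        _ = d := by rw [hg'inv d hd, hginv _ (inv_mem hd), inv_inv]
    by_cases h1 : d = 1
    · exact Or.inl h1
    · exact Or.inr (h.invol_D (invol_iff.2 ⟨by nth_rewrite 1 [← h2]; exact inv_mul_cancel d, h1⟩) hd)
  refine ⟨hD, fun c hc => ?_⟩
  by_cases hcN : c ∈ N
  · rcases hD c (mem_D.2 ⟨hcN, hc⟩) with rfl | rfl
    · exact one_mul 1
    · exact h.z_sq
  · exact invol_mul_self (h.point_swap hc hcN).1

end

end Cfsg.Agent.Lib.TICount
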