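import Cfsg.Agent.Lib.Involutions.Basic
import Mathlib

/-!
# A trivial intersection subgroup with many involutions outside: elementary counting

`M` meets its other conjugates trivially, its normalizer is `M · C(z)` for an involution `z`
normalising `M`, centralizers of non-trivial elements of `M` have odd order, and `G` has more
involutions than `M` has cosets. Then every coset of `M` outside the normalizer contains exactly
one involution, and this pins down the action of `G` on the conjugates of `M`.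
-/

set_option autoImplicit false
set_option linter.unusedSectionVars false

namespace Cfsg.Agent.Lib.TICount

open Cfsg.Agent.Lib.Involutions.Basic

variable {G : Type*} [Group G] {M : Subgroup G} {z : G}

/-- The hypothesis, element-wise. -/
structure Hyp (M : Subgroup G) (z : G) : Prop where
  ne_bot : M ≠ ⊥
  not_normal : ¬ M.Normal
  hz : orderOf z = 2
  hzN : z ∈ Subgroup.normalizer (M : Set G)
  fac : ∀ g ∈ Subgroup.normalizer (M : Set G),
    ∃ m ∈ M, ∃ c ∈ Subgroup.normalizer (M : Set G), c * z = z * c ∧ g = m * c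
  ti : ∀ g x : G, x ∈ M → x ≠ 1 → g * x * g⁻¹ ∈ M → g ∈ Subgroup.normalizer (M : Set G)
  odd : ∀ x ∈ M, x ≠ 1 → Odd (Nat.card ↥(Subgroup.centralizer ({x} : Set G)))
  many : M.index < Nat.card {g : G // orderOf g = 2}

/-- The centralizer of `z` in the normalizer of `M`. -/
def D (M : Subgroup G) (z : G) : Subgroup G :=
  Subgroup.normalizer (M : Set G) ⊓ Subgroup.centralizer {z}

theorem mem_D {g : G} : g ∈ D M z ↔ g ∈ Subgroup.normalizer (M : Set G) ∧ g * z = z * g := by
  rw [D, Subgroup.mem_inf, Subgroup.mem_centralizer_singleton_iff]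

theorem D_le : D M z ≤ Subgroup.normalizer (M : Set G) := inf_le_left

section

variable [Finite G] (h : Hyp M z)
include h

local notation "N" => Subgroup.normalizer (M : Set G)

theorem Hyp.conj_mem {g : G} (hg : g ∈ N) {x : G} (hx : x ∈ M) : g * x * g⁻¹ ∈ M :=
  (Subgroup.mem_normalizer_iff.1 hg x).1 hx

theorem Hyp.le_N : M ≤ N := Subgroup.le_normalizer

theorem Hyp.no_invol_commute {x : G} (hx : x ∈ M) (hx1 : x ≠ 1) {i : G} (hi : orderOf i = 2)
    (hc : i * x = x * i) : False := by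
  have h1 : orderOf i ∣ Nat.card ↥(Subgroup.centralizer ({x} : Set G)) :=
    Subgroup.orderOf_dvd_natCard _ (Subgroup.mem_centralizer_singleton_iff.2 hc)
  rw [hi] at h1
  exact Nat.not_even_iff_odd.2 (h.odd x hx hx1) (even_iff_two_dvd.2 h1)

theorem Hyp.eq_one_of_sq {x : G} (hx : x ∈ M) (h2 : x * x = 1) : x = 1 := by
  by_contra h1
  exact h.no_invol_commute hx h1 (invol_iff.2 ⟨h2, h1⟩) rfl

theorem Hyp.odd_card : Odd (Nat.card M) := by
  rw [← Nat.not_even_iff_odd, even_iff_two_dvd]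
  intro h2
  have : Fact (Nat.Prime 2) := ⟨Nat.prime_two⟩
  obtain ⟨x, hx⟩ := exists_prime_orderOf_dvd_card' (G := M) 2 h2
  rw [← Subgroup.orderOf_coe] at hx
  exact (invol_iff.1 hx).2 (h.eq_one_of_sq x.2 (invol_iff.1 hx).1)

theorem Hyp.inverts {i : G} (hi : orderOf i = 2) (hiN : i ∈ N) {x : G} (hx : x ∈ M) :
    i * x * i⁻¹ = x⁻¹ := by
  have hii := invol_mul_self hi
  let φ : M → M := fun y => ⟨(y : G)⁻¹ * (i * y * i⁻¹), mul_mem (inv_mem y.2) (h.conj_mem hiN y.2)⟩
  have hinj : Function.Injective φ := by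
    intro a b e
    have e' : (a : G)⁻¹ * (i * a * i⁻¹) = (b : G)⁻¹ * (i * b * i⁻¹) := congrArg Subtype.val e
    have hfix : i * ((b : G) * (a : G)⁻¹) = ((b : G) * (a : G)⁻¹) * i := by
      calc i * ((b : G) * (a : G)⁻¹)
          = (i * b * i⁻¹) * (i * a * i⁻¹)⁻¹ * i := by group
        _ = (b : G) * ((b : G)⁻¹ * (i * b * i⁻¹)) * (i * a * i⁻¹)⁻¹ * i := by group
        _ = ((b : G) * (a : G)⁻¹) * i := by rw [← e']; group
    have h1 : (b : G) * (a : G)⁻¹ = 1 := by
      by_contra h1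
      exact h.no_invol_commute (mul_mem b.2 (inv_mem a.2)) h1 hi hfix
    exact Subtype.ext (mul_inv_eq_one.1 h1).symm
  obtain ⟨y, hy⟩ := (Finite.injective_iff_surjective.1 hinj) ⟨x, hx⟩
  have hy' : (y : G)⁻¹ * (i * y * i⁻¹) = x := congrArg Subtype.val hy
  rw [← hy', invol_inv hi]
  simp only [mul_inv_rev, inv_inv, invol_inv hi, mul_assoc]
  rw [hii, mul_one]

theorem Hyp.inverts' {i : G} (hi : orderOf i = 2) (hiN : i ∈ N) {x : G} (hx : x ∈ M) :
    i * x * i = x⁻¹ := by
  have := h.inverts hi hiN hx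
  rwa [invol_inv hi] at this

theorem Hyp.z_inv {x : G} (hx : x ∈ M) : z * x * z = x⁻¹ := h.inverts' h.hz h.hzN hx

theorem Hyp.comm {a b : G} (ha : a ∈ M) (hb : b ∈ M) : a * b = b * a := by
  have h1 := h.inverts h.hz h.hzN (mul_mem ha hb)
  rw [show z * (a * b) * z⁻¹ = (z * a * z⁻¹) * (z * b * z⁻¹) by group, h.inverts h.hz h.hzN ha,
    h.inverts h.hz h.hzN hb] at h1
  calc a * b = (b⁻¹ * a⁻¹)⁻¹ := by group
    _ = (a⁻¹ * b⁻¹)⁻¹ := by rw [← mul_inv_rev, ← h1]
    _ = b * a := by group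

theorem Hyp.exists_sq {x : G} (hx : x ∈ M) : ∃ y ∈ M, y * y = x := by
  obtain ⟨k, hk⟩ := (h.odd_card.of_dvd_nat (Subgroup.orderOf_dvd_natCard M hx))
  refine ⟨x ^ (k + 1), pow_mem hx _, ?_⟩
  rw [← pow_add, show k + 1 + (k + 1) = orderOf x + 1 by omega, pow_succ, pow_orderOf_eq_one,
    one_mul]

theorem Hyp.invol_N {i : G} (hi : orderOf i = 2) (hiN : i ∈ N) : z * i ∈ M := by
  obtain ⟨m, hm, c, hc, hcz, rfl⟩ := h.fac i hiN
  have hzz := invol_mul_self h.hz
  obtain ⟨x, hx, hx1⟩ : ∃ x ∈ M, x ≠ 1 := by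
    obtain ⟨⟨x, hx⟩, hx1⟩ := Subgroup.ne_bot_iff_exists_ne_one.1 h.ne_bot
    exact ⟨x, hx, fun e => hx1 (Subtype.ext e)⟩
  have hcinv : ∀ y ∈ M, c * y * c⁻¹ = y⁻¹ := by
    intro y hy
    have h1 := h.inverts hi hiN hy
    rw [show m * c * y * (m * c)⁻¹ = m * (c * y * c⁻¹) * m⁻¹ by group,
      h.comm hm (h.conj_mem hc hy), mul_inv_cancel_right] at h1
    exact h1
  have hsq : c * c = 1 := by
    have h1 := invol_mul_self hi
    rw [show m * c * (m * c) = m * (c * m * c⁻¹) * (c * c) by group, hcinv m hm, mul_inv_cancel,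
      one_mul] at h1
    exact h1
  have hzc : z * c = 1 := by
    by_contra hne
    refine h.no_invol_commute hx hx1 (invol_iff.2 ⟨?_, hne⟩) ?_
    · rw [show z * c * (z * c) = z * (c * z) * c by group, hcz, ← mul_assoc, hzz, one_mul, hsq]
    · have h2 : z * c * x * (z * c)⁻¹ = x := by
        rw [show z * c * x * (z * c)⁻¹ = z * (c * x * c⁻¹) * z⁻¹ by group, hcinv x hx,
          h.inverts h.hz h.hzN (inv_mem hx), inv_inv]
      exact mul_inv_eq_iff_eq_mul.1 h2
  have hc' : c = z := by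
    rw [eq_inv_of_mul_eq_one_right hzc, invol_inv h.hz]
  rw [hc', ← mul_assoc, h.z_inv hm]
  exact inv_mem hm

theorem Hyp.notMem_N_uniq {u v : G} (hu : orderOf u = 2) (hv : orderOf v = 2) (huN : u ∉ N)
    (huv : u * v ∈ M) : u = v := by
  by_contra hne
  refine huN (h.ti u (u * v) huv (fun e => hne ?_) ?_)
  · rw [eq_inv_of_mul_eq_one_left e, invol_inv hv]
  · have e : u * (u * v) * u⁻¹ = (u * v)⁻¹ := by
      rw [mul_inv_rev, invol_inv hv, invol_inv hu, ← mul_assoc, invol_mul_self hu, one_mul]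
    rw [e]
    exact inv_mem huv

theorem Hyp.exists_invol_coset {g : G} (hg : g ∉ N) : ∃ u : G, orderOf u = 2 ∧ g⁻¹ * u ∈ M := by
  by_contra hno
  push Not at hno
  have hgN : ∀ y ∈ M, y * g ∉ N := fun y hy hm => hg (by
    simpa using mul_mem (inv_mem (h.le_N hy)) hm)
  have hnoy : ∀ y ∈ M, ∀ u : G, orderOf u = 2 → (y * g)⁻¹ * u ∉ M := by
    intro y hy u hu hm
    refine hno (y⁻¹ * u * y) ?_ ?_
    · have := orderOf_conj_eq y⁻¹ u
      rw [inv_inv] at this
      rw [this, hu]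
    · rw [show g⁻¹ * (y⁻¹ * u * y) = (y * g)⁻¹ * u * y by group]
      exact mul_mem hm hy
  classical
  let Ψ : {i : G // orderOf i = 2} → G ⧸ M := fun i =>
    if i.1 ∈ N then QuotientGroup.mk (z * i.1 * g) else QuotientGroup.mk i.1
  have hinj : Function.Injective Ψ := by
    intro i j e
    by_cases hi : i.1 ∈ N <;> by_cases hj : j.1 ∈ N <;>
      simp only [Ψ, hi, hj, ↓reduceIte, QuotientGroup.eq] at e
    · refine Subtype.ext (mul_left_cancel (a := z) ?_)
      by_contra hne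
      have h1 : g⁻¹ * ((z * i.1)⁻¹ * (z * j.1)) * g ∈ M := by
        simpa [mul_assoc] using e
      have hm := mul_mem (inv_mem (h.invol_N i.2 hi)) (h.invol_N j.2 hj)
      have := h.ti g⁻¹ _ hm (fun e1 => hne (inv_mul_eq_one.1 e1)) (by rwa [inv_inv])
      exact hg (by simpa using inv_mem this)
    · exact absurd e (hnoy _ (h.invol_N i.2 hi) j.1 j.2)
    · refine absurd ?_ (hnoy _ (h.invol_N j.2 hj) i.1 i.2)
      simpa [mul_assoc] using inv_mem e
    · refine Subtype.ext (h.notMem_N_uniq i.2 j.2 hi ?_)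
      rwa [invol_inv i.2] at e
  have := Nat.card_le_card_of_injective Ψ hinj
  rw [← Subgroup.index_eq_card] at this
  exact absurd h.many (by omega)

/-- For an involution `u` outside the normalizer, every coset in the normalizer has an element
inverted by `u`. -/
theorem Hyp.swap_lift {u : G} (hu : orderOf u = 2) (huN : u ∉ N) {c : G} (hc : c ∈ N) :
    ∃ x ∈ M, u * (c * x) * u = (c * x)⁻¹ := by
  have hucN : u * c ∉ N := fun hm => huN (by simpa using mul_mem hm (inv_mem hc))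
  obtain ⟨v, hv, hvm⟩ := h.exists_invol_coset hucN
  refine ⟨_, hvm, ?_⟩
  have e : c * ((u * c)⁻¹ * v) = u * v := by rw [mul_inv_rev, invol_inv hu]; group
  rw [e, mul_inv_rev, invol_inv hu, invol_inv hv, ← mul_assoc u u, invol_mul_self hu, one_mul]

theorem Hyp.meet {u : G} (hu : orderOf u = 2) (huN : u ∉ N) {x : G} (hx : x ∈ M)
    (hxu : u * x * u ∈ N) : x = 1 := by
  obtain ⟨x0, hx0, hd⟩ := h.swap_lift hu huN h.hzN
  have hzz := invol_mul_self h.hz
  have hdd : z * x0 * (z * x0) = 1 := by rw [← mul_assoc, h.z_inv hx0, inv_mul_cancel]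
  rw [inv_eq_of_mul_eq_one_right hdd] at hd
  set y := u * x * u with hy
  have huu := invol_mul_self hu
  -- `z * x0` inverts `x`, so it inverts `y`
  have hdx : z * x0 * x * (z * x0) = x⁻¹ := by
    calc z * x0 * x * (z * x0) = z * (x0 * x) * z * x0 := by group
      _ = x⁻¹ := by rw [h.z_inv (mul_mem hx0 hx), h.comm hx0 hx, mul_inv_rev, mul_assoc,
          h.comm (inv_mem hx) hx0, ← mul_assoc, inv_mul_cancel, one_mul]
  have hud : u * (z * x0) = z * x0 * u := by
    calc u * (z * x0) = u * (z * x0) * (u * u) := by rw [huu, mul_one]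
      _ = u * (z * x0) * u * u := by group
      _ = z * x0 * u := by rw [hd]
  have hdy : z * x0 * y * (z * x0) = y⁻¹ := by
    calc z * x0 * y * (z * x0) = (z * x0 * u) * x * (u * (z * x0)) := by rw [hy]; group
      _ = u * (z * x0 * x * (z * x0)) * u := by rw [← hud]; nth_rewrite 2 [hud]; group
      _ = y⁻¹ := by rw [hdx, hy, mul_inv_rev, mul_inv_rev, invol_inv hu, mul_assoc]
  obtain ⟨m0, hm0, c, hc, hcz, hyc⟩ := h.fac y hxu
  have h1 : (x0 * m0)⁻¹ * c * x0 = y⁻¹ := by
    rw [← hdy, hyc, ← h.z_inv (mul_mem hx0 hm0)]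
    calc z * (x0 * m0) * z * c * x0 = z * (x0 * m0) * (z * c) * x0 := by group
      _ = z * x0 * (m0 * c) * (z * x0) := by rw [← hcz]; group
  have h2 : y * x0 * y = m0 * x0 * m0 := by
    have hc2 : c = x0 * m0 * y⁻¹ * x0⁻¹ := by rw [← h1]; group
    calc y * x0 * y = (m0 * c) * x0 * y := by rw [← hyc]
      _ = m0 * x0 * m0 := by rw [hc2]; group
  have h3 : y * y ∈ M := by
    have h4 := h.conj_mem hxu hx0
    rw [show y * y = (y * x0 * y⁻¹)⁻¹ * (y * x0 * y) by group, h2]
    exact mul_mem (inv_mem h4) (mul_mem (mul_mem hm0 hx0) hm0)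
  have h5 : y * y = u * (x * x) * u⁻¹ := by
    rw [invol_inv hu, hy]
    calc u * x * u * (u * x * u) = u * x * (u * u) * x * u := by group
      _ = u * (x * x) * u := by rw [huu, mul_one]; group
  refine h.eq_one_of_sq hx ?_
  by_contra h6
  rw [h5] at h3
  exact huN (h.ti u _ (mul_mem hx hx) h6 h3)

theorem Hyp.z_mem_D : z ∈ D M z := mem_D.2 ⟨h.hzN, rfl⟩

theorem Hyp.z_sq : z * z = 1 := invol_mul_self h.hz

theorem Hyp.D_inter {x : G} (hx : x ∈ D M z) (hxM : x ∈ M) : x = 1 := by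
  by_contra h1
  exact h.no_invol_commute hxM h1 h.hz (mem_D.1 hx).2.symm

theorem Hyp.decomp {g : G} (hg : g ∈ N) : ∃ m ∈ M, ∃ c ∈ D M z, g = m * c := by
  obtain ⟨m, hm, c, hc, hcz, e⟩ := h.fac g hg
  exact ⟨m, hm, c, mem_D.2 ⟨hc, hcz⟩, e⟩

theorem Hyp.invol_D {i : G} (hi : orderOf i = 2) (hiD : i ∈ D M z) : i = z := by
  have h1 := h.D_inter (mul_mem h.z_mem_D hiD) (h.invol_N hi (mem_D.1 hiD).1)
  rw [eq_inv_of_mul_eq_one_right h1, invol_inv h.hz]

/-- Outside `N`, the centralizer of `z` consists of involutions inverting `D`. -/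
theorem Hyp.point_swap {g : G} (hgz : g * z = z * g) (hgN : g ∉ N) :
    orderOf g = 2 ∧ ∀ d ∈ D M z, g * d * g = d⁻¹ := by
  obtain ⟨v, hv, hx⟩ := h.exists_invol_coset hgN
  have hvv := invol_mul_self hv
  set x := g⁻¹ * v with hxdef
  have hvgx : v = g * x := by rw [hxdef]; group
  have hvN : v ∉ N := fun hm => hgN (by
    rw [show g = v * x⁻¹ by rw [hvgx]; group]
    exact mul_mem hm (inv_mem (h.le_N hx)))
  have hxN := h.le_N hx
  -- `z` and the involution of `z M` inverted by `v` both lie in `N ∩ vNv`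
  obtain ⟨x0, hx0, hd⟩ := h.swap_lift hv hvN h.hzN
  have hgz' : g⁻¹ * z * g = z := by rw [mul_assoc, ← hgz, inv_mul_cancel_left]
  have hvz : v * z * v ∈ N := by
    nth_rewrite 1 [← invol_inv hv]
    rw [hvgx, show (g * x)⁻¹ * z * (g * x) = x⁻¹ * (g⁻¹ * z * g) * x by group, hgz']
    exact mul_mem (mul_mem (inv_mem hxN) h.hzN) hxN
  have hvx0 : v * x0 * v ∈ N := by
    have e : v * x0 * v = (v * z * v) * (v * (z * x0) * v) := by
      calc v * x0 * v = v * (z * z) * x0 * v := by rw [h.z_sq, mul_one]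
        _ = v * z * (v * v) * (z * x0) * v := by rw [hvv, mul_one]; group
        _ = _ := by group
    rw [e]
    refine mul_mem hvz ?_
    rw [hd]
    exact inv_mem (mul_mem h.hzN (h.le_N hx0))
  rw [h.meet hv hvN hx0 hvx0, mul_one, invol_inv h.hz] at hd
  have hvzc : v * z = z * v := by
    calc v * z = v * z * (v * v) := by rw [hvv, mul_one]
      _ = v * z * v * v := by group
      _ = z * v := by rw [hd]
  have hx1 : x = 1 := by
    by_contra h1
    refine h.no_invol_commute hx h1 h.hz ?_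
    have e : g * (z * x) = g * (x * z) := by
      calc g * (z * x) = g * z * x := by group
        _ = z * v := by rw [hgz, hvgx]; group
        _ = g * (x * z) := by rw [← hvzc, hvgx]; group
    exact mul_left_cancel e
  have hgv : v = g := by rw [hvgx, hx1, mul_one]
  refine ⟨hgv ▸ hv, fun d hd' => ?_⟩
  obtain ⟨hdN, hdz⟩ := mem_D.1 hd'
  obtain ⟨y, hy, hdy⟩ := h.swap_lift hv hvN hdN
  have hzd : z * (d * y) * z = d * y⁻¹ := by
    calc z * (d * y) * z = (z * d) * y * z := by group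
      _ = d * (z * y * z) := by rw [← hdz]; group
      _ = d * y⁻¹ := by rw [h.z_inv hy]
  have hdy' : v * (d * y⁻¹) * v ∈ N := by
    rw [← hzd]
    have e : v * (z * (d * y) * z) * v = z * (v * (d * y) * v) * z := by
      calc v * (z * (d * y) * z) * v = (v * z) * (d * y) * (z * v) := by group
        _ = (z * v) * (d * y) * (v * z) := by rw [hvzc]
        _ = _ := by group
    rw [e, hdy]
    exact mul_mem (mul_mem h.hzN (inv_mem (mul_mem hdN (h.le_N hy)))) h.hzN
  have hyy : v * (y * y) * v ∈ N := by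
    have e : v * (y * y) * v = (v * (d * y⁻¹) * v)⁻¹ * (v * (d * y) * v) := by
      simp only [mul_inv_rev, inv_inv, invol_inv hv, mul_assoc]
      rw [← mul_assoc v v, hvv, one_mul, inv_mul_cancel_left]
    rw [e, hdy]
    exact mul_mem (inv_mem hdy') (inv_mem (mul_mem hdN (h.le_N hy)))
  have hy1 := h.eq_one_of_sq hy (h.meet hv hvN (mul_mem hy hy) hyy)
  rw [hy1, mul_one, hgv] at hdy
  exact hdy

theorem Hyp.exists_swap : ∃ g : G, g * z = z * g ∧ g ∉ N := by
  obtain ⟨g0, hg0⟩ : ∃ g : G, g ∉ N := by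
    by_contra hall
    push Not at hall
    exact h.not_normal (Subgroup.normalizer_eq_top_iff.1 ((Subgroup.eq_top_iff' _).2 hall))
  obtain ⟨u, hu, hum⟩ := h.exists_invol_coset hg0
  have huN : u ∉ N := fun hm => hg0 (by
    rw [show g0 = u * (g0⁻¹ * u)⁻¹ by group]
    exact mul_mem hm (inv_mem (h.le_N hum)))
  obtain ⟨x0, hx0, hd⟩ := h.swap_lift hu huN h.hzN
  rw [inv_eq_of_mul_eq_one_right (b := z * x0)
    (by rw [← mul_assoc, h.z_inv hx0, inv_mul_cancel])] at hd
  obtain ⟨y, hy, hyy⟩ := h.exists_sq (inv_mem hx0)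
  have hcz : z * x0 = y * z * y⁻¹ := by
    calc z * x0 = z * (y * y)⁻¹ := by rw [hyy, inv_inv]
      _ = z * y⁻¹ * z * (z * y⁻¹) := by
          rw [mul_inv_rev]
          calc z * (y⁻¹ * y⁻¹) = z * y⁻¹ * (z * z) * y⁻¹ := by rw [h.z_sq, mul_one]; group
            _ = _ := by group
      _ = y * z * y⁻¹ := by rw [h.z_inv (inv_mem hy), inv_inv]; group
  refine ⟨y⁻¹ * u * y, ?_, fun hm => huN ?_⟩
  · have huc : u * (y * z * y⁻¹) = y * z * y⁻¹ * u := by
      rw [← hcz]
      calc u * (z * x0) = u * (z * x0) * (u * u) := by rw [invol_mul_self hu, mul_one]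
        _ = u * (z * x0) * u * u := by group
        _ = z * x0 * u := by rw [hd]
    calc y⁻¹ * u * y * z = y⁻¹ * (u * (y * z * y⁻¹)) * y := by group
      _ = z * (y⁻¹ * u * y) := by rw [huc]; group
  · have := mul_mem (mul_mem (h.le_N hy) hm) (inv_mem (h.le_N hy))
    simpa [mul_assoc] using this

theorem Hyp.D_comm {a b : G} (ha : a ∈ D M z) (hb : b ∈ D M z) : a * b = b * a := by
  obtain ⟨g, hgz, hgN⟩ := h.exists_swap
  obtain ⟨hg, hinv⟩ := h.point_swap hgz hgN
  have h1 := hinv _ (mul_mem ha hb)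
  rw [show g * (a * b) * g = (g * a * g) * (g⁻¹ * g⁻¹) * (g * b * g) by group,
    ← mul_inv_rev g g, invol_mul_self hg, inv_one, mul_one, hinv a ha, hinv b hb] at h1
  calc a * b = (b⁻¹ * a⁻¹)⁻¹ := by group
    _ = (a⁻¹ * b⁻¹)⁻¹ := by rw [← mul_inv_rev, ← h1]
    _ = b * a := by group

end

end Cfsg.Agent.Lib.TICount
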