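import Cfsg.Agent.Lib.TICount.Action
import Cfsg.Agent.Lib.SharpThree.Exists
import Cfsg.Agent.Lib.SharpThree.PGL
import Cfsg.Agent.Lib.Zassenhaus.EvenPSL
import Cfsg.Prelude.Def_Transfer

/-!
# The doubly transitive case
-/

set_option autoImplicit false
set_option linter.unusedSectionVars false

namespace Cfsg.Agent.Lib.TICount

open Cfsg.Agent.Lib.Involutions.Basic
open MulAction

universe u

variable {G : Type u} [Group G] {M : Subgroup G} {z : G}

local notation "N" => Subgroup.normalizer (M : Set G)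
local notation "Ω" => G ⧸ Subgroup.normalizer (M : Set G)

/-- All the movers lie in one coset of `D`, represented by `g0`. -/
structure TwoTrans (M : Subgroup G) (z g0 : G) : Prop where
  hyp : Hyp M z
  mover : Mover M z g0
  unique : ∀ g g' : G, Mover M z g → Mover M z g' → g * g' ∈ Subgroup.normalizer (M : Set G)

theorem sharp_of_card {H α : Type*} [Group H] [MulAction H α] [Finite H] [Finite α]
    (hthree : ∀ (g : H) (a b c : α), a ≠ b → b ≠ c → a ≠ c →
      g • a = a → g • b = b → g • c = c → g = 1)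
    (hcard : Nat.card H = Nat.card α * (Nat.card α - 1) * (Nat.card α - 2))
    (_hn : 3 ≤ Nat.card α) :
    IsMultiplyPretransitive H α 3 ∧ ∀ e : Fin 3 ↪ α, stabilizer H e = ⊥ := by
  classical
  have := Fintype.ofFinite α
  have hs : ∀ e : Fin 3 ↪ α, stabilizer H e = ⊥ := by
    refine fun e => (Subgroup.eq_bot_iff_forall _).2 fun g hg => ?_
    have hi : ∀ i, g • e i = e i := fun i =>
      congrArg (fun f : Fin 3 ↪ α => f i) (mem_stabilizer_iff.1 hg)
    exact hthree g (e 0) (e 1) (e 2) (fun h => by simpa using e.injective h)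
      (fun h => by simpa using e.injective h) (fun h => by simpa using e.injective h)
      (hi 0) (hi 1) (hi 2)
  refine ⟨⟨fun e f => ?_⟩, hs⟩
  have hinj : Function.Injective fun g : H => g • e := fun g g' he => by
    have h1 : g'⁻¹ * g ∈ stabilizer H e := by
      rw [mem_stabilizer_iff, mul_smul, show g • e = g' • e from he, inv_smul_smul]
    rw [hs e, Subgroup.mem_bot] at h1
    exact (inv_mul_eq_one.1 h1).symm
  have hb := hinj.bijective_of_nat_card_le (le_of_eq (by
    rw [hcard, Nat.card_eq_fintype_card (α := Fin 3 ↪ α), Fintype.card_embedding_eq,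
      Fintype.card_fin, ← Nat.card_eq_fintype_card]
    simp only [Nat.descFactorial_succ, Nat.descFactorial_zero, mul_one, Nat.sub_zero]
    ring))
  exact hb.2 f

variable [Finite G] {g0 : G} (t : TwoTrans M z g0)
include t

theorem TwoTrans.g0_invol : orderOf g0 = 2 := (t.hyp.point_swap t.mover.1 t.mover.2).1

theorem TwoTrans.g0_inv {d : G} (hd : d ∈ D M z) : g0 * d * g0 = d⁻¹ :=
  (t.hyp.point_swap t.mover.1 t.mover.2).2 d hd

theorem TwoTrans.g0_mul_mem {c : G} (hc : c * z = z * c) (hcN : c ∉ N) : g0 * c ∈ D M z :=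
  mem_D.2 ⟨t.unique g0 c t.mover ⟨hc, hcN⟩, by
    rw [mul_assoc, hc, ← mul_assoc, t.mover.1, mul_assoc]⟩

theorem TwoTrans.point_eq {p : Ω} (hp : p ≠ base M) :
    ∃ x ∈ M, x • g0 • base M = p := by
  obtain ⟨g, hg, x, hx, rfl⟩ := t.hyp.rep hp
  refine ⟨x, hx, congrArg (x • ·) ?_⟩
  rw [smul_eq_smul_iff, ← invol_inv (t.hyp.point_swap hg.1 hg.2).1, inv_inv]
  exact t.unique g g0 hg t.mover

theorem TwoTrans.g0_ne : g0 • base M ≠ base M := t.hyp.mover_ne t.mover

theorem TwoTrans.fixed_eq {q : Ω} (hq : q ≠ base M) (hzq : z • q = q) : q = g0 • base M := by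
  obtain ⟨x, hx, rfl⟩ := t.point_eq hq
  rw [t.hyp.fixed_uniq hx t.g0_ne (t.hyp.z_fix_mover t.mover) hzq, one_smul]

theorem TwoTrans.card_omega : Nat.card Ω = Nat.card M + 1 := by
  rw [t.hyp.card_points]
  have : Nat.card {q : Ω // q ≠ base M ∧ z • q = q} = 1 :=
    Nat.card_eq_one_iff_unique.2 ⟨⟨fun a b => Subtype.ext
      ((t.fixed_eq a.2.1 a.2.2).trans (t.fixed_eq b.2.1 b.2.2).symm)⟩,
      ⟨⟨g0 • base M, t.g0_ne, t.hyp.z_fix_mover t.mover⟩⟩⟩
  rw [this, one_mul]

theorem TwoTrans.D_fix {d : G} (hd : d ∈ D M z) :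
    d • base M = base M ∧ d • g0 • base M = g0 • base M := by
  refine ⟨(smul_base_eq_iff d).2 (D_le hd), ?_⟩
  rw [← mul_smul, smul_eq_smul_iff, invol_inv t.g0_invol, ← mul_assoc, t.g0_inv hd]
  exact inv_mem (D_le hd)

theorem TwoTrans.mem_D_of_fix {g : G} (ho : g • base M = base M)
    (hb : g • g0 • base M = g0 • base M) : g ∈ D M z := by
  obtain ⟨x, hx, d, hd, rfl⟩ := t.hyp.decomp ((smul_base_eq_iff g).1 ho)
  have h1 : x = 1 := by
    refine t.hyp.free hx t.g0_ne ?_
    rwa [mul_smul, (t.D_fix hd).2] at hb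
  rw [h1, one_mul]
  exact hd

theorem TwoTrans.two_trans : IsMultiplyPretransitive G Ω 2 := by
  rw [is_two_pretransitive_iff]
  intro a b c d hab hcd
  obtain ⟨g, hg⟩ := exists_smul_eq G a (base M)
  obtain ⟨g', hg'⟩ := exists_smul_eq G c (base M)
  obtain ⟨x, hx, ex⟩ := t.point_eq (p := g • b) fun e => hab (smul_left_cancel g (hg.trans e.symm))
  obtain ⟨x', hx', ex'⟩ := t.point_eq (p := g' • d)
    fun e => hcd (smul_left_cancel g' (hg'.trans e.symm))
  refine ⟨g'⁻¹ * (x' * x⁻¹) * g, ?_, ?_⟩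
  · rw [mul_smul, mul_smul, hg, (smul_base_eq_iff _).2
      (t.hyp.le_N (mul_mem hx' (inv_mem hx))), inv_smul_eq_iff, hg']
  · rw [mul_smul, mul_smul, mul_smul x', ← ex, inv_smul_smul, ex', inv_smul_smul]

theorem TwoTrans.semiregular {x d : G} (hx : x ∈ M) (hx1 : x ≠ 1) (hd : d ∈ D M z)
    (hc : d * x = x * d) : d = 1 := by
  have hodd : Odd (orderOf d) := (t.hyp.odd x hx hx1).of_dvd_nat
    (Subgroup.orderOf_dvd_natCard _ (Subgroup.mem_centralizer_singleton_iff.2 hc))
  have hzb : z • g0 • base M = g0 • base M := t.hyp.z_fix_mover t.mover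
  -- `z` interchanges the two translates of `g0 • base M` by `x` and `x⁻¹`
  have hzx : ∀ y ∈ M, z • y • g0 • base M = y⁻¹ • g0 • base M := by
    intro y hy
    rw [← mul_smul, show z * y = y⁻¹ * z by
      rw [← t.hyp.z_inv hy, mul_assoc, t.hyp.z_sq, mul_one], mul_smul, hzb]
  have hdfix : ∀ y ∈ M, d * y = y * d → d • y • g0 • base M = y • g0 • base M := by
    intro y _ hy
    rw [← mul_smul, hy, mul_smul, (t.D_fix hd).2]
  have hne : x • g0 • base M ≠ x⁻¹ • g0 • base M := by
    intro e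
    rw [eq_inv_smul_iff, ← mul_smul] at e
    exact hx1 (t.hyp.eq_one_of_sq hx (t.hyp.free (mul_mem hx hx) t.g0_ne e))
  obtain ⟨k, hk1, hk2⟩ := (is_two_pretransitive_iff.1 t.two_trans) t.g0_ne.symm hne
  set v := k⁻¹ * z * k with hv
  have hvo : v • base M = g0 • base M := by
    rw [hv, mul_smul, mul_smul, hk1, hzx x hx, inv_smul_eq_iff, hk2]
  have hvb : v • g0 • base M = base M := by
    rw [hv, mul_smul, mul_smul, hk2, hzx x⁻¹ (inv_mem hx), inv_inv, inv_smul_eq_iff, hk1]
  have hvD : g0 * v ∈ D M z := by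
    refine t.mem_D_of_fix ?_ ?_
    · rw [mul_smul, hvo, ← mul_smul, invol_mul_self t.g0_invol, one_smul]
    · rw [mul_smul, hvb]
  have hvinv : ∀ a ∈ D M z, v * a * v⁻¹ = a⁻¹ := by
    intro a ha
    have hg0 := t.g0_invol
    have e : v = g0 * (g0 * v) := by rw [← mul_assoc, invol_mul_self hg0, one_mul]
    rw [e]
    set w := g0 * v
    rw [show g0 * w * a * (g0 * w)⁻¹ = g0 * (w * a * w⁻¹) * g0⁻¹ by group,
      t.hyp.D_comm hvD ha, mul_inv_cancel_right, invol_inv hg0, t.g0_inv ha]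
  have hkd : k⁻¹ * d * k ∈ D M z := by
    refine t.mem_D_of_fix ?_ ?_
    · rw [mul_smul, mul_smul, hk1, hdfix x hx hc, inv_smul_eq_iff, hk1]
    · rw [mul_smul, mul_smul, hk2,
        hdfix x⁻¹ (inv_mem hx) (Commute.inv_right (show Commute d x from hc)).eq, inv_smul_eq_iff,
        hk2]
  have h1 := hvinv _ hkd
  have h2 : z * d * z⁻¹ = d⁻¹ := by
    have := congrArg (fun w => k * w * k⁻¹) h1
    simp only [hv] at this
    simpa [mul_assoc] using this
  rw [← (mem_D.1 hd).2, mul_inv_cancel_right] at h2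
  by_contra hd1
  have h3 : orderOf d = 2 := invol_iff.2 ⟨by nth_rewrite 2 [h2]; exact mul_inv_cancel d, hd1⟩
  rw [h3] at hodd
  exact absurd hodd (by decide)

theorem TwoTrans.eq_one_of_three {g : G} {a b c : Ω} (hab : a ≠ b) (hbc : b ≠ c) (hac : a ≠ c)
    (ha : g • a = a) (hb : g • b = b) (hc : g • c = c) : g = 1 := by
  obtain ⟨k, hk1, hk2⟩ := (is_two_pretransitive_iff.1 t.two_trans) hab t.g0_ne.symm
  set d := k * g * k⁻¹ with hd
  have hfix : ∀ w : Ω, g • w = w → d • k • w = k • w := fun w hw => by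
    rw [hd, mul_smul, mul_smul, inv_smul_smul, hw]
  have hdD : d ∈ D M z := t.mem_D_of_fix (hk1 ▸ hfix a ha) (hk2 ▸ hfix b hb)
  obtain ⟨x, hx, hxe⟩ := t.point_eq (p := k • c) fun e => hac (smul_left_cancel k (hk1.trans e.symm))
  have hx1 : x ≠ 1 := fun e => hbc (smul_left_cancel k (by rw [hk2, ← hxe, e, one_smul]))
  have hcomm : d * x = x * d := by
    have h1 := hfix c hc
    rw [← hxe] at h1
    have hy := t.hyp.conj_mem (D_le hdD) hx
    have h2 : (d * x * d⁻¹) • g0 • base M = x • g0 • base M := by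
      rw [mul_smul, mul_smul, inv_smul_eq_iff.2 (t.D_fix hdD).2.symm, h1]
    have h3 := t.hyp.free (mul_mem (inv_mem hx) hy) t.g0_ne
      (by rw [mul_smul, h2, inv_smul_smul])
    exact mul_inv_eq_iff_eq_mul.1 (inv_mul_eq_one.1 h3).symm
  have hd1 := t.semiregular hx hx1 hdD hcomm
  calc g = k⁻¹ * d * k := by rw [hd]; group
    _ = 1 := by rw [hd1]; group

theorem TwoTrans.card_centralizer :
    Nat.card ↥(Subgroup.centralizer ({z} : Set G)) = 2 * Nat.card (D M z) := by
  classical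
  have hg0 := t.g0_invol
  let f : Bool × D M z → ↥(Subgroup.centralizer ({z} : Set G)) := fun w =>
    ⟨bif w.1 then g0 * w.2 else w.2, Subgroup.mem_centralizer_singleton_iff.2 (by
      rcases w with ⟨_ | _, d, hd⟩
      · exact (mem_D.1 hd).2
      · show g0 * d * z = z * (g0 * d)
        rw [mul_assoc, (mem_D.1 hd).2, ← mul_assoc, t.mover.1, mul_assoc])⟩
  have hb : Function.Bijective f := by
    refine ⟨?_, ?_⟩
    · rintro ⟨b, d, hd⟩ ⟨b', d', hd'⟩ e
      have e' : (bif b then g0 * d else d) = bif b' then g0 * d' else d' := congrArg Subtype.val e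
      cases b <;> cases b' <;> simp only [cond_false, cond_true] at e'
      · subst e'; rfl
      · refine absurd ?_ t.mover.2
        rw [show g0 = d * d'⁻¹ by rw [e']; group]
        exact D_le (mul_mem hd (inv_mem hd'))
      · refine absurd ?_ t.mover.2
        rw [show g0 = d' * d⁻¹ by rw [← e']; group]
        exact D_le (mul_mem hd' (inv_mem hd))
      · obtain rfl := mul_left_cancel e'
        rfl
    · rintro ⟨c, hc⟩
      rw [Subgroup.mem_centralizer_singleton_iff] at hc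
      by_cases hcN : c ∈ N
      · exact ⟨(false, ⟨c, mem_D.2 ⟨hcN, hc⟩⟩), rfl⟩
      · refine ⟨(true, ⟨g0 * c, t.g0_mul_mem hc hcN⟩), Subtype.ext ?_⟩
        show g0 * (g0 * c) = c
        rw [← mul_assoc, invol_mul_self hg0, one_mul]
  rw [← Nat.card_eq_of_bijective f hb, Nat.card_prod]
  simp

theorem TwoTrans.card_le : Nat.card M ≤ 2 * Nat.card (D M z) + 1 := by
  have h1 := t.hyp.class_mul
  rw [t.card_centralizer, t.card_omega] at h1
  have h2 : Nat.card {g : G // IsConj z g} * 2 = (Nat.card M + 1) * Nat.card M :=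
    Nat.eq_of_mul_eq_mul_right (Nat.card_pos (α := D M z)) (by rw [mul_assoc, h1, mul_assoc])
  have h3 := t.hyp.card_invol_le
  rw [t.hyp.index_eq, t.card_omega] at h3
  have h4 := t.hyp.class_le
  by_contra hlt
  have h5 : (2 * Nat.card (D M z) + 2) * Nat.card M ≤ Nat.card M * Nat.card M :=
    Nat.mul_le_mul_right _ (by omega)
  have h6 : 0 < Nat.card M := Nat.card_pos
  nlinarith

theorem TwoTrans.dvd_sub_one : Nat.card (D M z) ∣ Nat.card M - 1 := by
  classical
  have := Fintype.ofFinite M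
  let : MulAction (D M z) {x : M // x ≠ 1} :=
    { smul := fun d x => ⟨⟨(d : G) * x.1 * (d : G)⁻¹, t.hyp.conj_mem (D_le d.2) x.1.2⟩,
        fun e => x.2 (Subtype.ext (by
          have := congrArg (fun y : M => (d : G)⁻¹ * y * d) e
          simpa [mul_assoc] using this))⟩
      one_smul := fun x => Subtype.ext (Subtype.ext
        (show ((1 : D M z) : G) * x.1 * ((1 : D M z) : G)⁻¹ = x.1 by simp))
      mul_smul := fun a b x => Subtype.ext (Subtype.ext
        (show ((a * b : D M z) : G) * x.1 * ((a * b : D M z) : G)⁻¹ =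
          (a : G) * ((b : G) * x.1 * (b : G)⁻¹) * (a : G)⁻¹ by simp [mul_assoc])) }
  have hstab : ∀ x : {x : M // x ≠ 1}, stabilizer (D M z) x = ⊥ := by
    refine fun x => (Subgroup.eq_bot_iff_forall _).2 fun d hd => ?_
    have e : (d : G) * x.1 * (d : G)⁻¹ = x.1 :=
      congrArg Subtype.val (congrArg Subtype.val (mem_stabilizer_iff.1 hd))
    exact Subtype.ext (t.semiregular x.1.2 (fun e' => x.2 (Subtype.ext e')) d.2
      (mul_inv_eq_iff_eq_mul.1 e))
  have h1 := Nat.card_congr (selfEquivOrbitsQuotientProd hstab)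
  rw [Nat.card_prod, Nat.card_eq_fintype_card (α := {x : M // x ≠ 1}), Fintype.card_subtype_compl,
    Fintype.card_subtype_eq, ← Nat.card_eq_fintype_card] at h1
  exact Dvd.intro_left _ h1.symm

theorem TwoTrans.two_le_card_D : 2 ≤ Nat.card (D M z) := by
  have := Subgroup.orderOf_dvd_natCard _ t.hyp.z_mem_D
  rw [t.hyp.hz] at this
  exact Nat.le_of_dvd Nat.card_pos this

theorem TwoTrans.card_cases :
    Nat.card M = Nat.card (D M z) + 1 ∨ Nat.card M = 2 * Nat.card (D M z) + 1 := by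
  obtain ⟨k, hk⟩ := t.dvd_sub_one
  have h1 := t.card_le
  have h2 := t.hyp.card_D_lt
  have h3 := t.two_le_card_D
  rcases k with _ | _ | _ | k
  · omega
  · omega
  · omega
  · have : Nat.card (D M z) * 3 ≤ Nat.card (D M z) * (k + 1 + 1 + 1) :=
      Nat.mul_le_mul_left _ (by omega)
    omega

/-- `M` has prime exponent. -/
theorem TwoTrans.exists_prime_pow : ∃ p a : ℕ, p.Prime ∧ 1 ≤ a ∧ Nat.card M = p ^ a ∧
    ∀ x ∈ M, x ^ p = 1 := by
  classical
  have hm : 1 < Nat.card M := by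
    have := t.hyp.card_D_lt
    have := t.two_le_card_D
    omega
  obtain ⟨p, hp, hpd⟩ := Nat.exists_prime_and_dvd (show Nat.card M ≠ 1 by omega)
  have : Fact p.Prime := ⟨hp⟩
  obtain ⟨y, hy⟩ := exists_prime_orderOf_dvd_card' (G := M) p hpd
  rw [← Subgroup.orderOf_coe] at hy
  let T : Subgroup G :=
    { carrier := {x | x ∈ M ∧ x ^ p = 1}
      one_mem' := ⟨one_mem M, one_pow p⟩
      mul_mem' := fun {a b} ha hb => ⟨mul_mem ha.1 hb.1, by
        rw [(show Commute a b from t.hyp.comm ha.1 hb.1).mul_pow, ha.2, hb.2, one_mul]⟩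
      inv_mem' := fun {a} ha => ⟨inv_mem ha.1, by rw [inv_pow, ha.2, inv_one]⟩ }
  have hTM : T ≤ M := fun x hx => hx.1
  have hTconj : ∀ d ∈ D M z, ∀ x ∈ M, (d * x * d⁻¹ ∈ T ↔ x ∈ T) := fun d hd x hx => by
    refine ⟨fun e => ⟨hx, conj_eq_one_iff.1 ((conj_pow (i := p) (a := d) (b := x)).symm.trans e.2)⟩,
      fun e => ⟨t.hyp.conj_mem (D_le hd) hx, conj_pow.trans (by rw [e.2]; group)⟩⟩
  have hinj : ∀ x ∈ M, x ≠ 1 → Function.Injective fun d : D M z => (d : G) * x * (d : G)⁻¹ := by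
    intro x hx hx1 a b e
    have e' : (a : G) * x * (a : G)⁻¹ = (b : G) * x * (b : G)⁻¹ := e
    refine Subtype.ext (inv_mul_eq_one.1 ?_).symm
    refine t.semiregular hx hx1 (mul_mem (inv_mem b.2) a.2) ?_
    calc (b : G)⁻¹ * a * x = (b : G)⁻¹ * ((a : G) * x * (a : G)⁻¹) * a := by group
      _ = x * ((b : G)⁻¹ * a) := by rw [e']; group
  have hT : T = M := by
    by_contra hne
    obtain ⟨x, hxM, hxT⟩ := SetLike.exists_of_lt (lt_of_le_of_ne hTM hne)
    have hx1 : x ≠ 1 := fun e => hxT (e ▸ one_mem T)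
    have hyT : (y : G) ∈ T := ⟨y.2, hy ▸ pow_orderOf_eq_one _⟩
    have hy1 : (y : G) ≠ 1 := fun e => by
      rw [e, orderOf_one] at hy
      exact hp.one_lt.ne hy
    have := Fintype.ofFinite (D M z)
    have := Fintype.ofFinite M
    have := Fintype.ofFinite T
    have h1 : Nat.card (D M z) + 1 ≤ Nat.card T := by
      rw [← Finite.card_option]
      refine Nat.card_le_card_of_injective
        (fun o : Option (D M z) => o.elim (1 : T) fun d =>
          ⟨(d : G) * y * (d : G)⁻¹, (hTconj d d.2 y y.2).2 hyT⟩) ?_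
      rintro (_ | a) (_ | b) e
      · rfl
      · exact absurd (conj_eq_one_iff.1 (congrArg Subtype.val e).symm) hy1
      · exact absurd (conj_eq_one_iff.1 (congrArg Subtype.val e)) hy1
      · exact congrArg some (hinj y y.2 hy1 (congrArg Subtype.val e))
    have h2 : Nat.card T + Nat.card (D M z) ≤ Nat.card M := by
      rw [← Nat.card_sum]
      refine Nat.card_le_card_of_injective (Sum.elim (Subgroup.inclusion hTM)
        fun d : D M z => (⟨(d : G) * x * (d : G)⁻¹, t.hyp.conj_mem (D_le d.2) hxM⟩ : M)) ?_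
      rintro (a | a) (b | b) e
      · exact congrArg _ (Subgroup.inclusion_injective hTM e)
      · have e' : (a : G) = (b : G) * x * (b : G)⁻¹ := congrArg Subtype.val e
        exact absurd ((hTconj b b.2 x hxM).1 (e' ▸ a.2)) hxT
      · have e' : (a : G) * x * (a : G)⁻¹ = (b : G) := congrArg Subtype.val e
        exact absurd ((hTconj a a.2 x hxM).1 (e'.symm ▸ b.2)) hxT
      · exact congrArg _ (hinj x hxM hx1 (congrArg Subtype.val e))
    have hdvd := Subgroup.card_dvd_of_le hTM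
    have h3 := t.card_le
    have e1 : Nat.card T = Nat.card (D M z) + 1 := by omega
    have e2 : Nat.card M = 2 * Nat.card (D M z) + 1 := by omega
    rw [e1, e2] at hdvd
    obtain ⟨c, hc⟩ := hdvd
    rcases c with _ | _ | c
    · omega
    · have := t.two_le_card_D
      omega
    · have : (Nat.card (D M z) + 1) * 2 ≤ (Nat.card (D M z) + 1) * (c + 1 + 1) :=
        Nat.mul_le_mul_left _ (by omega)
      omega
  have hexp : ∀ x ∈ M, x ^ p = 1 := fun x hx => (hT.symm ▸ hx : x ∈ T).2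
  have hpg : IsPGroup p M := fun x => ⟨1, Subtype.ext (by simpa using hexp x x.2)⟩
  obtain ⟨a, ha⟩ := IsPGroup.iff_card.1 hpg
  refine ⟨p, a, hp, ?_, ha, hexp⟩
  rcases a with _ | a
  · rw [ha] at hm; simp at hm
  · omega

theorem TwoTrans.elementary : ∀ (F : Type) [Field F] [Fintype F], Fintype.card F = Nat.card M →
    ∃ (p : ℕ) (_ : Fact p.Prime) (_ : CharP F p),
      Fintype.card F = Nat.card M ∧ Cfsg.IsElementaryAbelian p M := by
  intro F _ _ hF
  obtain ⟨p, a, hp, ha, hcard, hexp⟩ := t.exists_prime_pow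
  have : Fact p.Prime := ⟨hp⟩
  refine ⟨p, this, charP_of_card_eq_prime_pow (f := a) (hF.trans hcard), hF,
    ⟨⟨fun x y => Subtype.ext (t.hyp.comm x.2 y.2)⟩⟩, hexp⟩

theorem TwoTrans.faithful : FaithfulSMul G Ω := by
  refine ⟨fun {a b} e => ?_⟩
  have hm : 2 ≤ Nat.card M := by
    have := t.hyp.card_D_lt
    have := t.two_le_card_D
    omega
  obtain ⟨x, hx, hx1⟩ : ∃ x ∈ M, x ≠ 1 := by
    obtain ⟨⟨x, hx⟩, hx1⟩ := Subgroup.ne_bot_iff_exists_ne_one.1 t.hyp.ne_bot
    exact ⟨x, hx, fun e => hx1 (Subtype.ext e)⟩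
  have h1 := t.eq_one_of_three (g := b⁻¹ * a) (a := base M) (b := g0 • base M)
    (c := x • g0 • base M) t.g0_ne.symm
    (fun e => hx1 (t.hyp.free hx t.g0_ne e.symm))
    (fun e => t.g0_ne (smul_left_cancel x (e.symm.trans
      ((smul_base_eq_iff x).2 (t.hyp.le_N hx)).symm)))
    (by rw [mul_smul, e, inv_smul_smul]) (by rw [mul_smul, e, inv_smul_smul])
    (by rw [mul_smul, e, inv_smul_smul])
  exact (inv_mul_eq_one.1 h1).symm

theorem TwoTrans.iso_pgl (he : Nat.card M = Nat.card (D M z) + 1) :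
    ∃ (F : Type) (_ : Field F) (_ : Fintype F), Fintype.card F = Nat.card M ∧
      Nonempty (G ≃* (GL (Fin 2) F ⧸ Subgroup.center (GL (Fin 2) F))) := by
  classical
  have := t.faithful
  have hn : 3 ≤ Nat.card Ω := by
    have := t.two_le_card_D
    have := t.card_omega
    omega
  obtain ⟨h3, hsharp⟩ := sharp_of_card (H := G) (α := Ω)
    (fun g a b c h1 h2 h3 => t.eq_one_of_three h1 h2 h3) (by
      rw [t.hyp.card_group, t.card_omega, Nat.add_sub_cancel,
        show Nat.card M + 1 - 2 = Nat.card (D M z) by omega]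
      ring) hn
  obtain ⟨x, hx, hx1⟩ : ∃ x ∈ M, x ≠ 1 := by
    obtain ⟨⟨x, hx⟩, hx1⟩ := Subgroup.ne_bot_iff_exists_ne_one.1 t.hyp.ne_bot
    exact ⟨x, hx, fun e => hx1 (Subtype.ext e)⟩
  have hbc : g0 • base M ≠ x • g0 • base M := fun e => hx1 (t.hyp.free hx t.g0_ne e.symm)
  have hac : base M ≠ x • g0 • base M := fun e => t.g0_ne (smul_left_cancel x (e.symm.trans
    ((smul_base_eq_iff x).2 (t.hyp.le_N hx)).symm))
  obtain ⟨s, hsa, hsb, hsc⟩ := SharpThree.exists_of_trans (G := G) h3 (base M) (g0 • base M)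
    (x • g0 • base M) (g0 • base M) (base M) (x • g0 • base M) t.g0_ne.symm hac hbc t.g0_ne hbc hac
  obtain ⟨p, f, V, _, F, -, -, -, -, hFa, hFb, -, hFs⟩ :=
    SharpThree.exists_frame h3 hsharp t.g0_ne.symm hac hbc s hsa hsb hsc
  have hH : ∀ k : F.H, (k : G) ∈ D M z := fun k => t.mem_D_of_fix
    (by have := F.H_a k; rwa [hFa] at this) (by have := F.H_b k; rwa [hFb] at this)
  have hs : g0 * s ∈ D M z := t.mem_D_of_fix
    (by rw [mul_smul, hsa, ← mul_smul, invol_mul_self t.g0_invol, one_smul])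
    (by rw [mul_smul, hsb])
  obtain ⟨K, iK, iF, hK, ⟨i⟩⟩ := F.nonempty_iso_pgl
    (fun a b => Subtype.ext (t.hyp.D_comm (hH a) (hH b)))
    (fun k => Subtype.ext (by
      rw [SharpThree.Frame.swap_coe, Subgroup.coe_inv]
      have e : F.s * (k : G) * F.s = F.s * k * F.s⁻¹ := by rw [F.s_inv]
      rw [e, hFs, show s = g0 * (g0 * s) by rw [← mul_assoc, invol_mul_self t.g0_invol, one_mul]]
      set w := g0 * s
      rw [show g0 * w * (k : G) * (g0 * w)⁻¹ = g0 * (w * k * w⁻¹) * g0⁻¹ by group,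
        t.hyp.D_comm hs (hH k), mul_inv_cancel_right, invol_inv t.g0_invol, t.g0_inv (hH k)]))
  rw [t.card_omega] at hK
  exact ⟨K, iK, iF, by omega, ⟨i⟩⟩

theorem TwoTrans.card_mod_four (he : Nat.card M = 2 * Nat.card (D M z) + 1) :
    Nat.card M % 4 = 1 := by
  have := Subgroup.orderOf_dvd_natCard _ t.hyp.z_mem_D
  rw [t.hyp.hz] at this
  omega

theorem TwoTrans.iso_psl (he : Nat.card M = 2 * Nat.card (D M z) + 1) :
    ∃ (F : Type) (_ : Field F) (_ : Fintype F), Fintype.card F = Nat.card M ∧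
      Fintype.card F % 4 = 1 ∧ Nonempty (G ≃* Matrix.ProjectiveSpecialLinearGroup (Fin 2) F) := by
  classical
  have hm4 := t.card_mod_four he
  have hD2 := t.two_le_card_D
  have hab : (base M) ≠ g0 • base M := t.g0_ne.symm
  have hstab : stabilizer G (base M) ⊓ stabilizer G (g0 • base M) = D M z := by
    ext g
    rw [Subgroup.mem_inf, mem_stabilizer_iff, mem_stabilizer_iff]
    exact ⟨fun hg => t.mem_D_of_fix hg.1 hg.2, t.D_fix⟩
  have hno : ∀ R : Subgroup G, R.Normal → IsPretransitive R Ω →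
      ∃ a : Ω, stabilizer R a ≠ ⊥ := by
    intro R hR htr
    refine ⟨base M, fun hbot => ?_⟩
    have hcR : Nat.card R = Nat.card M + 1 := by
      have h1 := Subgroup.card_mul_index (stabilizer R (base M))
      rw [hbot, Subgroup.card_bot, one_mul, ← hbot,
        index_stabilizer_of_transitive R (base M), t.card_omega] at h1
      exact h1.symm
    have hfree : ∀ r : R, r ≠ 1 → ∀ x ∈ M, x * (r : G) * x⁻¹ = r → x = 1 := by
      intro r hr x hx e
      refine t.hyp.free hx (p := (r : G) • base M) ?_ ?_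
      · intro e1
        have hmem : r ∈ stabilizer R (base M) := mem_stabilizer_iff.2 e1
        rw [hbot, Subgroup.mem_bot] at hmem
        exact hr hmem
      · rw [← mul_smul, mul_inv_eq_iff_eq_mul.1 e, mul_smul,
          (smul_base_eq_iff x).2 (t.hyp.le_N hx)]
    have : Fact (Nat.Prime 2) := ⟨Nat.prime_two⟩
    obtain ⟨r, hr⟩ := exists_prime_orderOf_dvd_card' (G := R) 2 (by rw [hcR]; omega)
    have hr1 : r ≠ 1 := fun e => by simp [e] at hr
    have := Fintype.ofFinite R
    have := Fintype.ofFinite M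
    let φ : M → {y : R // y ≠ 1} := fun x => ⟨⟨(x : G) * r * (x : G)⁻¹, hR.conj_mem _ r.2 x⟩,
      fun e => hr1 (Subtype.ext (conj_eq_one_iff.1 (congrArg Subtype.val e :)))⟩
    have hφi : Function.Injective φ := by
      intro a b e
      have e' : (a : G) * r * (a : G)⁻¹ = (b : G) * r * (b : G)⁻¹ :=
        congrArg Subtype.val (congrArg Subtype.val e)
      refine Subtype.ext (inv_mul_eq_one.1 (hfree r hr1 _ (mul_mem (inv_mem b.2) a.2) ?_)).symm
      calc (b : G)⁻¹ * a * r * ((b : G)⁻¹ * a)⁻¹ = (b : G)⁻¹ * ((a : G) * r * (a : G)⁻¹) * b := by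
            group
        _ = r := by rw [e']; group
    have hφ := hφi.bijective_of_nat_card_le (le_of_eq (by
      rw [Nat.card_eq_fintype_card (α := {y : R // y ≠ 1}), Fintype.card_subtype_compl,
        Fintype.card_subtype_eq, ← Nat.card_eq_fintype_card, hcR, Nat.add_sub_cancel]))
    have hexp : IsPGroup 2 R := fun y => ⟨1, by
      by_cases hy : y = 1
      · rw [hy, one_pow]
      obtain ⟨x, hx⟩ := hφ.2 ⟨y, hy⟩
      have hx' : (x : G) * r * (x : G)⁻¹ = y := congrArg Subtype.val (congrArg Subtype.val hx)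
      refine Subtype.ext ?_
      have h2 : (r : G) ^ 2 = 1 := by rw [← hr, ← Subgroup.orderOf_coe, pow_orderOf_eq_one]
      rw [Subgroup.coe_pow, ← hx', pow_one, conj_pow, h2]
      simp⟩
    obtain ⟨k, hk⟩ := IsPGroup.iff_card.1 hexp
    rw [hcR] at hk
    rcases k with _ | _ | k
    · rw [pow_zero] at hk; omega
    · rw [zero_add, pow_one] at hk; omega
    · have : 4 ∣ 2 ^ (k + 1 + 1) := ⟨2 ^ k, by ring⟩
      omega
  have hpairg : ∃ g : G, g ≠ 1 ∧ ∃ a b : Ω, a ≠ b ∧ g • a = a ∧ g • b = b :=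
    ⟨z, (invol_iff.1 t.hyp.hz).2, _, _, hab, (t.D_fix t.hyp.z_mem_D).1,
      (t.D_fix t.hyp.z_mem_D).2⟩
  have hZ : Cfsg.IsZassenhausGroup G Ω := ⟨t.faithful, t.two_trans,
    fun g a b c h1 h2 h3 => t.eq_one_of_three h1 h2 h3, hpairg, hno⟩
  have hzd := Subgroup.orderOf_dvd_natCard _ t.hyp.z_mem_D
  rw [t.hyp.hz] at hzd
  obtain ⟨F, iF, iFt, -, hF, hiso⟩ := Zassenhaus.iso_psl_of_even hZ hab
    (by rw [hstab]; exact even_iff_two_dvd.2 hzd)
    (by rw [hstab, t.card_omega]; omega)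
  rw [t.card_omega] at hF
  exact ⟨F, iF, iFt, by omega, by omega, hiso⟩

end Cfsg.Agent.Lib.TICount
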