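import Cfsg.Agent.Lib.TICount.Small
import Cfsg.Agent.Lib.TICount.TwoTrans
import Cfsg.Agent.Lib.DicksonId.Torus
import Cfsg.Agent.S4702

/-!
# One class of involutions: the groups `PSL₂(2^e)`
-/

set_option autoImplicit false
set_option linter.unusedSectionVars false

namespace Cfsg.Agent.Lib.TICount

open Cfsg.Agent.Lib.Involutions.Basic
open MulAction

universe u

variable {G : Type u} [Group G] {M : Subgroup G} {z : G}

set_option quotPrecheck false in
local notation "C" => Subgroup.centralizer ({z} : Set G)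
set_option quotPrecheck false in
local notation "NC" => Subgroup.normalizer ((Subgroup.centralizer ({z} : Set G) : Subgroup G) : Set G)
set_option quotPrecheck false in
local notation "Ψ" => G ⧸ Subgroup.normalizer ((Subgroup.centralizer ({z} : Set G) : Subgroup G) : Set G)

variable [Finite G] (t : Small M z) (hm : Nat.card M = 2 * fixCard M z + 1)
include t hm

theorem Small.centralizer_invol {s : G} (hs : s ∈ C) (hs1 : s ≠ 1) :
    Subgroup.centralizer ({s} : Set G) = C := by
  have hsz := Subgroup.mem_centralizer_singleton_iff.1 hs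
  obtain ⟨g, hg⟩ := isConj_iff.1 (t.all_conj hm (invol_iff.2 ⟨t.sq s hsz, hs1⟩))
  have hle : C ≤ Subgroup.centralizer ({s} : Set G) := fun c hc =>
    Subgroup.mem_centralizer_singleton_iff.2
      (t.comm_C (Subgroup.mem_centralizer_singleton_iff.1 hc) hsz)
  refine (Subgroup.eq_of_le_of_card_ge hle ?_).symm
  have e : (C).map (MulAut.conj g).toMonoidHom = Subgroup.centralizer ({s} : Set G) := by
    ext w
    rw [Subgroup.mem_centralizer_singleton_iff]
    constructor
    · rintro ⟨c, hc, rfl⟩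
      have hcz := Subgroup.mem_centralizer_singleton_iff.1 hc
      show g * c * g⁻¹ * s = s * (g * c * g⁻¹)
      rw [← hg]
      calc g * c * g⁻¹ * (g * z * g⁻¹) = g * (c * z) * g⁻¹ := by group
        _ = g * z * g⁻¹ * (g * c * g⁻¹) := by rw [hcz]; group
    · intro hw
      refine ⟨g⁻¹ * w * g, Subgroup.mem_centralizer_singleton_iff.2 ?_, by
        simp [MulAut.conj_apply, mul_assoc]⟩
      rw [← hg] at hw
      calc g⁻¹ * w * g * z = g⁻¹ * (w * (g * z * g⁻¹)) * g := by group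
        _ = z * (g⁻¹ * w * g) := by rw [hw]; group
  rw [← e, Subgroup.card_map_of_injective (MulAut.conj g).injective]

theorem Small.mem_normC_iff {g : G} : g ∈ NC ↔ g * z * g⁻¹ ∈ C := by
  refine ⟨fun h => (Subgroup.mem_normalizer_iff.1 h z).1
    (Subgroup.mem_centralizer_singleton_iff.2 rfl), fun h => ?_⟩
  have h1 : g * z * g⁻¹ ≠ 1 := fun e => (invol_iff.1 t.hyp.hz).2 (conj_eq_one_iff.1 e)
  have hC := t.centralizer_invol hm h h1
  refine Subgroup.mem_normalizer_iff.2 fun w => ?_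
  conv_rhs => rw [← hC]
  rw [Subgroup.mem_centralizer_singleton_iff, Subgroup.mem_centralizer_singleton_iff]
  constructor <;> intro e
  · calc g * w * g⁻¹ * (g * z * g⁻¹) = g * (w * z) * g⁻¹ := by group
      _ = g * z * g⁻¹ * (g * w * g⁻¹) := by rw [e]; group
  · calc w * z = g⁻¹ * (g * w * g⁻¹ * (g * z * g⁻¹)) * g := by group
      _ = z * w := by rw [e]; group

theorem Small.card_normC :
    Nat.card NC = 2 * fixCard M z * (2 * fixCard M z - 1) := by
  classical
  have hconj : ∀ s : {s : C // s ≠ 1}, ∃ g : G, g * z * g⁻¹ = s.1 := fun s =>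
    isConj_iff.1 (t.all_conj hm (invol_iff.2
      ⟨t.sq _ (Subgroup.mem_centralizer_singleton_iff.1 s.1.2), fun e => s.2 (Subtype.ext e)⟩))
  choose γ hγ using hconj
  let f : {s : C // s ≠ 1} × C → NC := fun w => ⟨γ w.1 * w.2, (t.mem_normC_iff hm).2 (by
    rw [show γ w.1 * (w.2 : G) * z * (γ w.1 * (w.2 : G))⁻¹ =
        γ w.1 * ((w.2 : G) * z * (w.2 : G)⁻¹) * (γ w.1)⁻¹ by group,
      Subgroup.mem_centralizer_singleton_iff.1 w.2.2, mul_inv_cancel_right, hγ]
    exact w.1.1.2)⟩
  have hval : ∀ w, ((f w : NC) : G) * z * ((f w : NC) : G)⁻¹ = (w.1.1 : G) := by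
    intro w
    show γ w.1 * (w.2 : G) * z * (γ w.1 * (w.2 : G))⁻¹ = _
    rw [show γ w.1 * (w.2 : G) * z * (γ w.1 * (w.2 : G))⁻¹ =
        γ w.1 * ((w.2 : G) * z * (w.2 : G)⁻¹) * (γ w.1)⁻¹ by group,
      Subgroup.mem_centralizer_singleton_iff.1 w.2.2, mul_inv_cancel_right, hγ]
  have hb : Function.Bijective f := by
    refine ⟨?_, ?_⟩
    · rintro ⟨s, c⟩ ⟨s', c'⟩ e
      have hv := hval (s, c)
      rw [e, hval (s', c')] at hv
      obtain rfl : s' = s := Subtype.ext (Subtype.ext hv)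
      have e2 : γ s' * (c : G) = γ s' * (c' : G) := congrArg Subtype.val e
      obtain rfl : c = c' := Subtype.ext (mul_left_cancel e2)
      rfl
    · rintro ⟨g, hg⟩
      have hs := (t.mem_normC_iff hm).1 hg
      let s : {s : C // s ≠ 1} := ⟨⟨_, hs⟩, fun e =>
        (invol_iff.1 t.hyp.hz).2 (conj_eq_one_iff.1 (congrArg Subtype.val e :))⟩
      refine ⟨(s, ⟨(γ s)⁻¹ * g, Subgroup.mem_centralizer_singleton_iff.2 ?_⟩), Subtype.ext ?_⟩
      · have e : γ s * z * (γ s)⁻¹ = g * z * g⁻¹ := hγ s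
        calc (γ s)⁻¹ * g * z = (γ s)⁻¹ * (g * z * g⁻¹) * g := by group
          _ = z * ((γ s)⁻¹ * g) := by rw [← e]; group
      · show γ s * ((γ s)⁻¹ * g) = g
        group
  have := Fintype.ofFinite C
  rw [← Nat.card_eq_of_bijective f hb, Nat.card_prod,
    Nat.card_eq_fintype_card (α := {s : C // s ≠ 1}), Fintype.card_subtype_compl,
    Fintype.card_subtype_eq, ← Nat.card_eq_fintype_card, t.card_centralizer, mul_comm]

theorem Small.card_group' : Nat.card G =
    fixCard M z * (2 * fixCard M z - 1) * ((2 * fixCard M z + 1) * 2) := by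
  have h3 := t.three_le_fixCard
  obtain ⟨r, hr⟩ : ∃ r, fixCard M z = r + 1 := ⟨fixCard M z - 1, by omega⟩
  rw [t.card_group, t.card_points, hm, hr, Nat.add_sub_cancel,
    show 2 * (r + 1) - 1 = 2 * r + 1 by omega]
  ring

theorem Small.card_psi : Nat.card Ψ = 2 * fixCard M z + 1 := by
  have h1 := Subgroup.card_mul_index NC
  rw [t.card_normC hm, t.card_group' hm] at h1
  have h3 := t.three_le_fixCard
  rw [← Subgroup.index_eq_card]
  refine Nat.eq_of_mul_eq_mul_left (Nat.mul_pos (show 0 < 2 * fixCard M z by omega)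
    (show 0 < 2 * fixCard M z - 1 by omega)) (h1.trans ?_)
  ring

theorem Small.C_le_normC : C ≤ NC := Subgroup.le_normalizer

theorem Small.invol_normC {i : G} (hi : orderOf i = 2) (hiN : i ∈ NC) : i ∈ C := by
  have hd := Subgroup.card_mul_index ((C).subgroupOf NC)
  rw [Nat.card_congr (Subgroup.subgroupOfEquivOfLe (t.C_le_normC hm)).toEquiv,
    t.card_centralizer, t.card_normC hm] at hd
  have h3 := t.three_le_fixCard
  have hidx := Nat.eq_of_mul_eq_mul_left (show 0 < 2 * fixCard M z by omega) hd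
  set X := Subgroup.normalizer ((C : Subgroup G) : Set G) with hX
  have hn : ((C).subgroupOf X).Normal := Subgroup.normal_in_normalizer
  have h1 := orderOf_map_dvd (QuotientGroup.mk' ((C).subgroupOf X)) ⟨i, hiN⟩
  rw [Subgroup.orderOf_mk, hi] at h1
  have h2 := orderOf_dvd_natCard (QuotientGroup.mk' ((C).subgroupOf X) ⟨i, hiN⟩)
  rw [← Subgroup.index_eq_card, hidx] at h2
  have h4 : QuotientGroup.mk' ((C).subgroupOf X) ⟨i, hiN⟩ = 1 :=
    orderOf_eq_one_iff.1 (Nat.eq_one_of_dvd_coprimes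
      (Nat.coprime_two_left.2 (Nat.odd_iff.2 (by omega))) h1 h2)
  rw [← MonoidHom.mem_ker, QuotientGroup.ker_mk'] at h4
  exact h4

theorem Small.normC_free {c : G} (hc : c ∈ C) {g : G} (hg : g ∉ NC)
    (hfix : g⁻¹ * c * g ∈ NC) : c = 1 := by
  by_contra hc1
  have hcz := Subgroup.mem_centralizer_singleton_iff.1 hc
  have hco : orderOf c = 2 := invol_iff.2 ⟨t.sq c hcz, hc1⟩
  have hco' : orderOf (g⁻¹ * c * g) = 2 := by
    have := orderOf_conj_eq g⁻¹ c
    rw [inv_inv] at this
    rw [this, hco]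
  have h1 := t.invol_normC hm hco' hfix
  refine hg (inv_mem_iff.1 (Subgroup.mem_normalizer_iff.2 fun w => ?_))
  have hCc := t.centralizer_invol hm hc hc1
  have hCd := t.centralizer_invol hm h1 (invol_iff.1 hco').2
  constructor <;> intro hw
  · rw [← hCd, Subgroup.mem_centralizer_singleton_iff, inv_inv]
    rw [← hCc, Subgroup.mem_centralizer_singleton_iff] at hw
    calc g⁻¹ * w * g * (g⁻¹ * c * g) = g⁻¹ * (w * c) * g := by group
      _ = g⁻¹ * c * g * (g⁻¹ * w * g) := by rw [hw]; group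
  · rw [← hCc, Subgroup.mem_centralizer_singleton_iff]
    rw [← hCd, Subgroup.mem_centralizer_singleton_iff, inv_inv] at hw
    calc w * c = g * (g⁻¹ * w * g * (g⁻¹ * c * g)) * g⁻¹ := by group
      _ = c * w := by rw [hw]; group

theorem Small.psi_free {c : G} (hc : c ∈ C) {p : Ψ} (hp : p ≠ QuotientGroup.mk 1)
    (hfix : c • p = p) : c = 1 := by
  obtain ⟨g, rfl⟩ := QuotientGroup.mk_surjective p
  rw [MulAction.Quotient.smul_mk, QuotientGroup.eq, smul_eq_mul] at hfix
  refine inv_eq_one.1 (t.normC_free hm (inv_mem hc) (g := g) ?_ ?_)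
  · intro hg
    exact hp (QuotientGroup.eq.2 (by simpa using hg))
  · rw [show g⁻¹ * c⁻¹ * g = (c * g)⁻¹ * g by group]
    exact hfix

theorem Small.psi_reg {p q : Ψ} (hp : p ≠ QuotientGroup.mk 1) (hq : q ≠ QuotientGroup.mk 1) :
    ∃ c ∈ C, c • p = q := by
  classical
  have := Fintype.ofFinite Ψ
  let o : Ψ := QuotientGroup.mk 1
  have hne : ∀ c ∈ C, ∀ w : Ψ, w ≠ o → c • w ≠ o := by
    intro c hc w hw e
    refine hw (MulAction.injective c (e.trans ?_))
    show o = c • (QuotientGroup.mk 1 : Ψ)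
    rw [MulAction.Quotient.smul_mk, QuotientGroup.eq, smul_eq_mul, mul_one, inv_one, one_mul]
    exact t.C_le_normC hm hc
  let f : C → {w : Ψ // w ≠ o} := fun c => ⟨(c : G) • p, hne c c.2 p hp⟩
  have hf : Function.Injective f := by
    intro a b e
    have e' : (a : G) • p = (b : G) • p := congrArg Subtype.val e
    refine Subtype.ext (inv_mul_eq_one.1 (t.psi_free hm (mul_mem (inv_mem b.2) a.2) hp ?_)).symm
    rw [mul_smul, e', inv_smul_smul]
  obtain ⟨c, hc⟩ := (hf.bijective_of_nat_card_le (le_of_eq (by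
    rw [Nat.card_eq_fintype_card, Fintype.card_subtype_compl, Fintype.card_subtype_eq,
      ← Nat.card_eq_fintype_card, t.card_psi hm, t.card_centralizer]
    omega))).2 ⟨q, hq⟩
  exact ⟨c, c.2, congrArg Subtype.val hc⟩

theorem Small.psi_three {g : G} {a b c : Ψ} (hab : a ≠ b) (hbc : b ≠ c) (hac : a ≠ c)
    (ha : g • a = a) (hb : g • b = b) (hc : g • c = c) : g = 1 := by
  let o : Ψ := QuotientGroup.mk 1
  obtain ⟨k, hk⟩ := exists_smul_eq G a o
  set h := k * g * k⁻¹ with hh
  have hfix : ∀ w : Ψ, g • w = w → h • k • w = k • w := fun w hw => by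
    rw [hh, mul_smul, mul_smul, inv_smul_smul, hw]
  have ho := hfix a ha
  rw [hk, show o = (QuotientGroup.mk 1 : Ψ) from rfl, MulAction.Quotient.smul_mk, QuotientGroup.eq,
    smul_eq_mul, mul_one, mul_one, inv_mem_iff] at ho
  have hkb : k • b ≠ o := fun e => hab (smul_left_cancel k (hk.trans e.symm))
  have hkc : k • c ≠ o := fun e => hac (smul_left_cancel k (hk.trans e.symm))
  obtain ⟨d, hd, hdb⟩ := t.psi_reg hm hkb hkc
  have hy : h * d * h⁻¹ ∈ C := (Subgroup.mem_normalizer_iff.1 ho d).1 hd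
  have h2 : (h * d * h⁻¹) • k • b = k • c := by
    rw [mul_smul, mul_smul, inv_smul_eq_iff.2 (hfix b hb).symm, hdb, hfix c hc]
  have h3 := t.psi_free hm (mul_mem (inv_mem hd) hy) hkb
    (by rw [mul_smul, h2, ← hdb, inv_smul_smul])
  have hhd : h * d = d * h := mul_inv_eq_iff_eq_mul.1 (inv_mul_eq_one.1 h3).symm
  have hd1 : d ≠ 1 := fun e => hbc (smul_left_cancel k (by rw [← hdb, e, one_smul]))
  have hhC : h ∈ C := by
    rw [← t.centralizer_invol hm hd hd1, Subgroup.mem_centralizer_singleton_iff]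
    exact hhd
  have hh1 := t.psi_free hm hhC hkb (hfix b hb)
  calc g = k⁻¹ * h * k := by rw [hh]; group
    _ = 1 := by rw [hh1]; group

theorem Small.iso_psl : ∃ (F : Type) (_ : Field F) (_ : Fintype F) (e : ℕ), 1 < e ∧
    Fintype.card F = 2 ^ e ∧ IsCyclic ↥M ∧ Nat.card M = 2 ^ e + 1 ∧
    Nonempty (G ≃* Matrix.ProjectiveSpecialLinearGroup (Fin 2) F) := by
  classical
  have h3q := t.three_le_fixCard
  have := Fintype.ofFinite Ψ
  have hn : Fintype.card Ψ = 2 * fixCard M z + 1 := by rw [← Nat.card_eq_fintype_card, t.card_psi hm]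
  obtain ⟨h3, hsharp⟩ := sharp_of_card (H := G) (α := Ψ)
    (fun g a b c h1 h2 h3 => t.psi_three hm h1 h2 h3) (by
      rw [t.card_group' hm, t.card_psi hm, Nat.add_sub_cancel,
        show 2 * fixCard M z + 1 - 2 = 2 * fixCard M z - 1 by omega]
      ring) (by rw [t.card_psi hm]; omega)
  have hinj : Function.Injective (MulAction.toPermHom G Ψ) := by
    intro a b e
    obtain ⟨x, y, w, h1, h2, h4⟩ := Fintype.two_lt_card_iff.1 (show 2 < Fintype.card Ψ by omega)
    have e' : ∀ v : Ψ, a • v = b • v := fun v => congrArg (fun f : Equiv.Perm Ψ => f v) e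
    exact (inv_mul_eq_one.1 (t.psi_three hm (g := b⁻¹ * a) h1 h4 h2
      (by rw [mul_smul, e', inv_smul_smul]) (by rw [mul_smul, e', inv_smul_smul])
      (by rw [mul_smul, e', inv_smul_smul]))).symm
  let H := (MulAction.toPermHom G Ψ).range
  have hH3 : IsMultiplyPretransitive H Ψ 3 := ⟨fun x y => by
    obtain ⟨g, hg⟩ := h3.exists_smul_eq x y
    exact ⟨⟨_, g, rfl⟩, Function.Embedding.ext fun i => congrArg (fun t : Fin 3 ↪ Ψ => t i) hg⟩⟩
  have hfix : ∀ g : H, 3 ≤ Nat.card (fixedBy Ψ g) → g = 1 := by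
    rintro ⟨_, g, rfl⟩ hg
    rw [Nat.card_eq_fintype_card] at hg
    obtain ⟨⟨x, hx⟩, ⟨y, hy⟩, ⟨w, hw⟩, h1, h2, h4⟩ := Fintype.two_lt_card_iff.1 hg
    have e : g = 1 := t.psi_three hm (fun e => h1 (Subtype.ext e)) (fun e => h4 (Subtype.ext e))
      (fun e => h2 (Subtype.ext e)) hx hy hw
    subst e
    exact Subtype.ext (map_one _)
  obtain ⟨k, hk, hcard, F, fF, ffF, hF, ⟨e⟩⟩ := Cfsg.Agent.S4702.result (α := Ψ) (by omega)
    (Nat.odd_iff.2 (by omega)) H hH3 hfix
  have hMk : Nat.card M = 2 ^ k + 1 := by omega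
  have hk1 : 1 < k := by
    rcases k with _ | _ | k
    · omega
    · omega
    · omega
  have : Fact (Nat.Prime 2) := ⟨Nat.prime_two⟩
  have : CharP F 2 := charP_of_card_eq_prime_pow (f := k) hF
  have hc : Subgroup.center (Matrix.SpecialLinearGroup (Fin 2) F) = ⊥ := by
    rw [Subgroup.eq_bot_iff_forall]
    intro A hA
    obtain ⟨r, hr, hA'⟩ := Matrix.SpecialLinearGroup.mem_center_iff.1 hA
    rw [Fintype.card_fin] at hr
    have hr1 : r = 1 := CharTwo.sq_injective (by simpa using hr)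
    refine Subtype.ext ?_
    rw [← hA', hr1, map_one]
    rfl
  let i : G ≃* Matrix.ProjectiveSpecialLinearGroup (Fin 2) F :=
    ((MonoidHom.ofInjective hinj).trans e).trans
      ((QuotientGroup.quotientMulEquivOfEq hc).trans QuotientGroup.quotientBot).symm
  refine ⟨F, fF, ffF, k, hk1, hF, ?_, hMk, ⟨i⟩⟩
  -- a torus through a nontrivial element of `M`
  obtain ⟨⟨x, hx⟩, hx1⟩ := Subgroup.ne_bot_iff_exists_ne_one.1 t.hyp.ne_bot
  have hx1' : x ≠ 1 := fun e => hx1 (Subtype.ext e)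
  have hxm : x ^ (Fintype.card F + 1) = 1 := by
    rw [hF, ← hMk]
    exact orderOf_dvd_iff_pow_eq_one.1 (Subgroup.orderOf_dvd_natCard _ hx)
  have hx2 : i x ^ 2 ≠ 1 := fun e2 => hx1' (t.hyp.eq_one_of_sq hx (i.injective (by
    rw [map_one, ← e2, pow_two, map_mul])))
  obtain ⟨y, hy, hxy⟩ := DicksonId.exists_torus (p := 2) hx2 (N := Fintype.card F + 1)
    (Or.inr rfl) (m := Fintype.card F + 1) (by
      rw [show Nat.gcd 2 (Fintype.card F - 1) = 1 from Nat.coprime_two_left.2 (Nat.odd_iff.2 (by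
        rw [hF]; rcases k with _ | k
        · omega
        · have := Nat.one_le_two_pow (n := k)
          rw [pow_succ]; omega)), one_mul])
    (by rw [← map_pow, hxm, map_one])
  obtain ⟨j, hj⟩ := Subgroup.mem_zpowers_iff.1 hxy
  have hyM : i.symm y ∈ M := by
    rw [← t.centralizer_eq hx hx1', Subgroup.mem_centralizer_singleton_iff]
    refine i.injective ?_
    rw [map_mul, map_mul, MulEquiv.apply_symm_apply, ← hj]
    exact (Commute.zpow_self y j).symm.eq
  refine isCyclic_of_orderOf_eq_card (⟨i.symm y, hyM⟩ : M) ?_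
  rw [Subgroup.orderOf_mk, MulEquiv.orderOf_eq, hy, hF, hMk]

end Cfsg.Agent.Lib.TICount
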