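import Cfsg.Agent.Lib.TICount.Action
import Cfsg.Agent.Lib.KegelWielandt.Main
import Cfsg.Agent.Lib.FpfHeight.PQFitting
import Cfsg.Agent.Lib.CNGroup.Solvable
import Cfsg.Agent.Lib.PGroups.Recognition
import Cfsg.Agent.Lib.Cores.Basic
import Cfsg.Prelude.Def_Transfer

/-!
# The case of a two-point stabiliser of order two
-/

set_option autoImplicit false
set_option linter.unusedSectionVars false

namespace Cfsg.Agent.Lib.TICount

open Cfsg.Agent.Lib.Involutions.Basic
open MulAction

universe u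

variable {G : Type u} [Group G] {M : Subgroup G} {z : G}

local notation "N" => Subgroup.normalizer (M : Set G)
local notation "Ω" => G ⧸ Subgroup.normalizer (M : Set G)

/-- `D = ⟨z⟩`, and the centralizer of `z` is elementary abelian and moves the base point to at
least two other points. -/
structure Small (M : Subgroup G) (z : G) : Prop where
  hyp : Hyp M z
  hD : ∀ d ∈ D M z, d = 1 ∨ d = z
  sq : ∀ g : G, g * z = z * g → g * g = 1
  two : ∃ g g' : G, Mover M z g ∧ Mover M z g' ∧ g * g' ∉ Subgroup.normalizer (M : Set G)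

variable [Finite G] (t : Small M z)
include t

theorem Small.card_D : Nat.card (D M z) = 2 := by
  rw [show D M z = Subgroup.zpowers z from le_antisymm (fun d hd => by
    rcases t.hD d hd with rfl | rfl
    · exact one_mem _
    · exact Subgroup.mem_zpowers _) (Subgroup.zpowers_le.2 t.hyp.z_mem_D), Nat.card_zpowers,
    t.hyp.hz]

theorem Small.comm_C {a b : G} (ha : a * z = z * a) (hb : b * z = z * b) : a * b = b * a := by
  have hab := t.sq (a * b) (by rw [mul_assoc, hb, ← mul_assoc, ha, mul_assoc])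
  rw [eq_inv_of_mul_eq_one_right hab, mul_inv_rev, inv_eq_of_mul_eq_one_right (t.sq b hb),
    inv_eq_of_mul_eq_one_right (t.sq a ha)]

theorem Small.centralizer_eq {x : G} (hx : x ∈ M) (hx1 : x ≠ 1) :
    Subgroup.centralizer ({x} : Set G) = M := by
  refine le_antisymm (fun g hg => ?_) fun y hy =>
    Subgroup.mem_centralizer_singleton_iff.2 (t.hyp.comm hy hx)
  rw [Subgroup.mem_centralizer_singleton_iff] at hg
  obtain ⟨m, hm, c, hc, rfl⟩ := t.hyp.decomp
    (t.hyp.ti g x hx hx1 (by rw [hg, mul_inv_cancel_right]; exact hx))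
  rcases t.hD c hc with rfl | rfl
  · rw [mul_one]; exact hm
  · refine (t.hyp.no_invol_commute hx hx1 t.hyp.hz ?_).elim
    refine mul_left_cancel (a := m) ?_
    rw [← mul_assoc, hg, ← mul_assoc, t.hyp.comm hx hm, mul_assoc]

/-- Number of points fixed by `z`. -/
noncomputable def fixCard (M : Subgroup G) (z : G) : ℕ :=
  Nat.card {p : G ⧸ Subgroup.normalizer (M : Set G) // z • p = p}

theorem Small.card_points : Nat.card Ω = (fixCard M z - 1) * Nat.card M + 1 := by
  classical
  have := Fintype.ofFinite Ω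
  rw [t.hyp.card_points]
  congr 2
  have e : {q : Ω // q ≠ base M ∧ z • q = q} ≃
      {q : {p : Ω // z • p = p} // q ≠ ⟨base M, (smul_base_eq_iff z).2 t.hyp.hzN⟩} :=
    { toFun := fun q => ⟨⟨q.1, q.2.2⟩, fun e => q.2.1 (congrArg Subtype.val e)⟩
      invFun := fun q => ⟨q.1.1, fun e => q.2 (Subtype.ext e), q.1.2⟩ }
  rw [Nat.card_congr e, Nat.card_eq_fintype_card, Fintype.card_subtype_compl,
    Fintype.card_subtype_eq, fixCard, Nat.card_eq_fintype_card]

theorem Small.card_centralizer :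
    Nat.card ↥(Subgroup.centralizer ({z} : Set G)) = 2 * fixCard M z := by
  have hzC : z ∈ Subgroup.centralizer ({z} : Set G) := Subgroup.mem_centralizer_singleton_iff.2 rfl
  have h1 := Subgroup.card_mul_index (stabilizer (Subgroup.centralizer ({z} : Set G)) (base M))
  have hstab : Nat.card (stabilizer (Subgroup.centralizer ({z} : Set G)) (base M)) = 2 := by
    rw [← t.card_D]
    exact Nat.card_congr
      { toFun := fun c => ⟨c.1.1, mem_D.2 ⟨(smul_base_eq_iff (c.1 : G)).1 (mem_stabilizer_iff.1 c.2),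
          Subgroup.mem_centralizer_singleton_iff.1 c.1.2⟩⟩
        invFun := fun d => ⟨⟨d.1, Subgroup.mem_centralizer_singleton_iff.2 (mem_D.1 d.2).2⟩,
          mem_stabilizer_iff.2 ((smul_base_eq_iff (d : G)).2 (D_le d.2))⟩
        left_inv := fun c => rfl
        right_inv := fun d => rfl }
  have hidx : (stabilizer (Subgroup.centralizer ({z} : Set G)) (base M)).index = fixCard M z := by
    rw [index_stabilizer, ← Nat.card_coe_set_eq, fixCard]
    refine Nat.card_congr (Equiv.setCongr (Set.ext fun p => ⟨?_, fun hp => ?_⟩))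
    · rintro ⟨⟨c, hc⟩, rfl⟩
      show z • c • base M = c • base M
      rw [← mul_smul, ← Subgroup.mem_centralizer_singleton_iff.1 hc, mul_smul,
        (smul_base_eq_iff z).2 t.hyp.hzN]
    · by_cases hpb : p = base M
      · exact ⟨1, show ((1 : ↥(Subgroup.centralizer ({z} : Set G))) : G) • base M = p by
          rw [Subgroup.coe_one, one_smul, hpb]⟩
      obtain ⟨g, hg, x, hx, rfl⟩ := t.hyp.rep hpb
      refine ⟨⟨g, Subgroup.mem_centralizer_singleton_iff.2 hg.1⟩, ?_⟩
      show g • base M = x • g • base M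
      rw [t.hyp.fixed_uniq hx (t.hyp.mover_ne hg) (t.hyp.z_fix_mover hg) hp, one_smul]
  rw [hstab, hidx] at h1
  exact h1.symm

theorem Small.three_le_fixCard : 3 ≤ fixCard M z := by
  classical
  obtain ⟨g, g', hg, hg', hne⟩ := t.two
  have := Fintype.ofFinite {p : Ω // z • p = p}
  rw [fixCard, Nat.card_eq_fintype_card]
  refine Fintype.two_lt_card_iff.2 ⟨⟨base M, (smul_base_eq_iff z).2 t.hyp.hzN⟩,
    ⟨g • base M, t.hyp.z_fix_mover hg⟩, ⟨g' • base M, t.hyp.z_fix_mover hg'⟩,
    fun e => t.hyp.mover_ne hg (congrArg Subtype.val e).symm,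
    fun e => t.hyp.mover_ne hg' (congrArg Subtype.val e).symm, fun e => hne ?_⟩
  have h1 := (smul_eq_smul_iff g g').1 (congrArg Subtype.val e)
  rwa [inv_eq_of_mul_eq_one_right (t.sq g' hg'.1), ← t.comm_C hg.1 hg'.1] at h1

theorem Small.exists_fix_pow : ∃ d, 2 ≤ d ∧ fixCard M z = 2 ^ d := by
  have hp : IsPGroup 2 ↥(Subgroup.centralizer ({z} : Set G)) := fun c => ⟨1, Subtype.ext (by
    simpa [pow_two] using t.sq c (Subgroup.mem_centralizer_singleton_iff.1 c.2))⟩
  have : Fact (Nat.Prime 2) := ⟨Nat.prime_two⟩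
  obtain ⟨j, hj⟩ := IsPGroup.iff_card.1 hp
  rw [t.card_centralizer] at hj
  have h3 := t.three_le_fixCard
  rcases j with _ | _ | _ | j
  · simp at hj
  · simp at hj; omega
  · simp at hj; omega
  · exact ⟨j + 2, by omega, by rw [pow_succ] at hj; omega⟩

theorem Small.card_group : Nat.card G = Nat.card Ω * (Nat.card M * 2) := by
  rw [t.hyp.card_group, t.card_D]

theorem Small.m_cases : Nat.card M = fixCard M z + 1 ∨ Nat.card M = 2 * fixCard M z + 1 := by
  obtain ⟨d, hd, hq⟩ := t.exists_fix_pow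
  have hn := t.card_points
  have hm3 : 2 < Nat.card M := t.card_D ▸ t.hyp.card_D_lt
  have hmodd := t.hyp.odd_card
  have h1 := t.hyp.class_mul
  rw [t.card_centralizer, t.card_D] at h1
  have h3 := t.hyp.card_invol_le
  rw [t.hyp.index_eq, t.card_D] at h3
  have h4 := t.hyp.class_le
  set q := fixCard M z
  set m := Nat.card M
  set cls := Nat.card {g : G // IsConj z g}
  have hq4 : 4 ≤ q := by
    rw [hq]; exact (Nat.pow_le_pow_right two_pos hd : 2 ^ 2 ≤ 2 ^ d)
  have hclsq : cls * q = Nat.card Ω * m :=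
    Nat.eq_of_mul_eq_mul_left two_pos (by rw [mul_left_comm, h1]; ring)
  obtain ⟨r, hr⟩ : ∃ r, q = r + 1 := ⟨q - 1, by omega⟩
  rw [hr, Nat.add_sub_cancel] at hn
  have hb : m ≤ 2 * q + 1 := by
    have h5 : Nat.card Ω * m ≤ (m + 2 * (r * m)) * q := by
      rw [← hclsq]
      refine Nat.mul_le_mul_right _ (h4.trans ?_)
      rw [hn] at h3
      omega
    rw [hn, hr] at h5
    have h6 : (r * m + 1) ≤ (1 + 2 * r) * (r + 1) :=
      Nat.le_of_mul_le_mul_left (show m * (r * m + 1) ≤ m * ((1 + 2 * r) * (r + 1)) by linarith)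
        (show 0 < m by omega)
    by_contra hlt
    have h7 : r * (2 * r + 4) ≤ r * m := Nat.mul_le_mul_left _ (by omega)
    nlinarith
  have hdvd : q ∣ r * m + 1 := by
    have h5 : q ∣ Nat.card Ω * m := Dvd.intro_left _ hclsq
    rw [hn] at h5
    refine Nat.Coprime.dvd_of_dvd_mul_right ?_ h5
    rw [hq]
    exact (Nat.coprime_two_left.2 hmodd).pow_left _
  have hm1 : q ∣ m - 1 := by
    have h5 : r * m + 1 + (m - 1) = q * m := by rw [hr, add_mul, one_mul]; omega
    exact (Nat.dvd_add_right hdvd).1 (h5 ▸ dvd_mul_right q m)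
  obtain ⟨k, hk⟩ := hm1
  rcases k with _ | _ | _ | k
  · omega
  · left; omega
  · right; omega
  · have : q * 3 ≤ q * (k + 1 + 1 + 1) := Nat.mul_le_mul_left _ (by omega)
    omega

theorem Small.all_conj (hm : Nat.card M = 2 * fixCard M z + 1) {i : G} (hi : orderOf i = 2) :
    IsConj z i := by
  obtain ⟨d, hd, hq⟩ := t.exists_fix_pow
  have hn := t.card_points
  have h1 := t.hyp.class_mul
  rw [t.card_centralizer, t.card_D] at h1
  have h3 := t.hyp.card_invol_le
  rw [t.hyp.index_eq, t.card_D] at h3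
  have hclsq : Nat.card {g : G // IsConj z g} * fixCard M z = Nat.card Ω * Nat.card M :=
    Nat.eq_of_mul_eq_mul_left two_pos (by rw [mul_left_comm, h1]; ring)
  obtain ⟨r, hr⟩ : ∃ r, fixCard M z = r + 1 :=
    ⟨fixCard M z - 1, by have := t.three_le_fixCard; omega⟩
  have hle : Nat.card {g : G // orderOf g = 2} ≤ Nat.card {g : G // IsConj z g} := by
    refine Nat.le_of_mul_le_mul_right ?_ (show 0 < r + 1 by omega)
    have e : Nat.card {g : G // IsConj z g} * (r + 1) = Nat.card Ω * Nat.card M := hr ▸ hclsq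
    rw [e]
    refine le_trans (Nat.mul_le_mul_right _ (show Nat.card {g : G // orderOf g = 2} ≤
      Nat.card M + 2 * (r * Nat.card M) by
        rw [hn, hr, Nat.add_sub_cancel] at h3; omega)) (le_of_eq ?_)
    rw [hn, hm, hr, Nat.add_sub_cancel]
    ring
  classical
  let f : {g : G // IsConj z g} → {g : G // orderOf g = 2} := fun g => ⟨g.1, by
    obtain ⟨c, hc⟩ := isConj_iff.1 g.2
    rw [← hc, orderOf_conj_eq, t.hyp.hz]⟩
  have hf : Function.Injective f := fun a b e => Subtype.ext (congrArg Subtype.val e :)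
  obtain ⟨g, hg⟩ := (hf.bijective_of_nat_card_le hle).2 ⟨i, hi⟩
  rw [show i = g.1 from (congrArg Subtype.val hg).symm]
  exact g.2

omit t in
theorem dvd_arith {d j : ℕ} (hd : 1 ≤ d) (hj : 1 ≤ j) (hj2 : j ≤ 2 * d + 1)
    (h : 2 ^ d + 1 ∣ 2 ^ j - 1) : j = 2 * d := by
  have hlt : d < j := by
    by_contra hle
    have h1 : 2 ^ j ≤ 2 ^ d := Nat.pow_le_pow_right two_pos (by omega)
    have h2 : 2 ≤ 2 ^ j := le_trans (by norm_num) (Nat.pow_le_pow_right two_pos hj)
    have := Nat.le_of_dvd (by omega) h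
    omega
  obtain ⟨i, rfl⟩ : ∃ i, j = d + i := ⟨j - d, by omega⟩
  have h1 : 2 ^ d + 1 ∣ 2 ^ i + 1 := by
    have e : 2 ^ (d + i) - 1 + (2 ^ i + 1) = (2 ^ d + 1) * 2 ^ i := by
      have h0 : 1 ≤ 2 ^ (d + i) := Nat.one_le_two_pow
      rw [add_mul, one_mul, ← pow_add]
      omega
    exact (Nat.dvd_add_right h).1 (e ▸ dvd_mul_right _ _)
  have hid : d ≤ i := by
    by_contra hlt'
    have h2 : 2 ^ i < 2 ^ d := Nat.pow_lt_pow_right (by norm_num) (by omega)
    have := Nat.le_of_dvd (Nat.succ_pos _) h1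
    omega
  rcases (show i = d ∨ i = d + 1 by omega) with rfl | rfl
  · omega
  · exfalso
    obtain ⟨c, hc⟩ := h1
    have h2 : 2 ≤ 2 ^ d := le_trans (by norm_num) (Nat.pow_le_pow_right two_pos hd)
    rw [pow_succ] at hc
    rcases c with _ | _ | c
    · omega
    · omega
    · have : (2 ^ d + 1) * 2 ≤ (2 ^ d + 1) * (c + 1 + 1) := Nat.mul_le_mul_left _ (by omega)
      omega

theorem Small.elementary_case (hm : Nat.card M = fixCard M z + 1) :
    ∃ (d : ℕ) (E : Subgroup G), 1 ≤ d ∧ E.Normal ∧ Cfsg.IsElementaryAbelian 2 E ∧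
      Nat.card E = 2 ^ (2 * d) ∧ E ⊓ N = ⊥ ∧ E ⊔ N = ⊤ ∧
      Nonempty (↥N ≃* DihedralGroup (2 ^ d + 1)) := by
  classical
  have : Fact (Nat.Prime 2) := ⟨Nat.prime_two⟩
  obtain ⟨d, hd, hq⟩ := t.exists_fix_pow
  have hm' : Nat.card M = 2 ^ d + 1 := by omega
  have hn : Nat.card Ω = 2 ^ (2 * d) := by
    rw [t.card_points, hm, hq, two_mul, pow_add]
    obtain ⟨r, hr⟩ : ∃ r, 2 ^ d = r + 1 := ⟨2 ^ d - 1, by have := Nat.one_le_two_pow (n := d); omega⟩
    rw [hr, Nat.add_sub_cancel]
    ring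
  have hG : Nat.card G = 2 ^ (2 * d + 1) * (2 ^ d + 1) := by
    rw [t.card_group, hn, hm', pow_succ]
    ring
  have hMab : IsMulCommutative M := ⟨⟨fun a b => Subtype.ext (t.hyp.comm a.2 b.2)⟩⟩
  have hModd : Odd (2 ^ d + 1) := hm' ▸ t.hyp.odd_card
  -- solvability
  obtain ⟨P⟩ : Nonempty (Sylow 2 G) := inferInstance
  have hP : Nat.card P = 2 ^ (2 * d + 1) := by
    rw [P.card_eq_multiplicity, hG]
    congr 1
    rw [Nat.factorization_mul (by positivity) (by omega), Finsupp.add_apply,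
      Nat.factorization_eq_zero_of_not_dvd (fun h => Nat.not_even_iff_odd.2 hModd
        (even_iff_two_dvd.2 h)), add_zero, Nat.Prime.factorization_pow Nat.prime_two,
      Finsupp.single_eq_same]
  have hsol : Group.IsSolvable G := by
    have hPnil : Group.IsNilpotent (P : Subgroup G) := P.2.isNilpotent
    have hMnil : Group.IsNilpotent M :=
      let _ : CommGroup M := { mul_comm := fun a b => Subtype.ext (t.hyp.comm a.2 b.2) }
      inferInstance
    refine KegelWielandt.isSolvable hPnil hMnil fun g => ?_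
    have hc : (P : Subgroup G).IsComplement' M := by
      refine Subgroup.isComplement'_of_coprime ?_ ?_
      · rw [show Nat.card (P : Subgroup G) = _ from hP, hm', hG]
      · rw [show Nat.card (P : Subgroup G) = _ from hP, hm']
        exact (Nat.coprime_two_left.2 hModd).pow_left _
    obtain ⟨⟨a, b⟩, he, -⟩ := hc.existsUnique g
    exact ⟨a, a.2, b, b.2, he.symm⟩
  have hm1 : 1 < Nat.card M := by rw [hm']; have := Nat.one_le_two_pow (n := d); omega
  obtain ⟨⟨y, hy⟩, hy1⟩ := Subgroup.ne_bot_iff_exists_ne_one.1 t.hyp.ne_bot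
  have hy1' : y ≠ 1 := fun e => hy1 (Subtype.ext e)
  have : Nontrivial G := ⟨⟨y, 1, hy1'⟩⟩
  obtain ⟨v, A, hv, hAc, hAab, hAexp, hA1⟩ :=
    FpfHeight.PQFitting.exists_char_elementary (G := G) hsol
  have hAn : A.Normal := inferInstance
  have hnoM : ¬ A ≤ M := by
    intro hle
    obtain ⟨⟨a, ha⟩, ha1⟩ := Subgroup.ne_bot_iff_exists_ne_one.1 hA1
    refine t.hyp.not_normal (Subgroup.normalizer_eq_top_iff.1 ((Subgroup.eq_top_iff' _).2 fun g => ?_))
    exact t.hyp.ti g a (hle ha) (fun e => ha1 (Subtype.ext e)) (hle (hAn.conj_mem a ha g))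
  have : Fact v.Prime := ⟨hv⟩
  have hApg : IsPGroup v A := fun a => ⟨1, Subtype.ext (by simpa using hAexp a a.2)⟩
  obtain ⟨j, hj⟩ := IsPGroup.iff_card.1 hApg
  have hv2 : v = 2 := by
    rcases hv.eq_two_or_odd' with e | hvo
    · exact e
    exfalso
    have hodd : Odd (Nat.card (A ⊔ M : Subgroup G)) := by
      rw [sup_comm]
      refine Odd.of_dvd_nat ?_ (Cores.card_sup_dvd_mul M A)
      rw [hj, hm']
      exact hModd.mul hvo.pow
    have hd2 := Subgroup.card_subgroup_dvd_card (A ⊔ M)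
    rw [hG] at hd2
    have hd3 : Nat.card (A ⊔ M : Subgroup G) ∣ 2 ^ d + 1 :=
      ((Nat.coprime_two_right.2 hodd).pow_right _).dvd_of_dvd_mul_left hd2
    refine hnoM ?_
    have := Subgroup.eq_of_le_of_card_ge (le_sup_right : M ≤ A ⊔ M)
      (by rw [hm']; exact Nat.le_of_dvd (by omega) hd3)
    rw [this]
    exact le_sup_left
  subst hv2
  have hAM : A ⊓ M = ⊥ := disjoint_iff.1 (Subgroup.disjoint_of_coprime_natCard (by
    rw [hj, hm']; exact (Nat.coprime_two_left.2 hModd).pow_left _))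
  have hfpf : ∀ x ∈ M, x ≠ 1 → A ⊓ Subgroup.centralizer ({x} : Set G) = ⊥ := by
    intro x hx hx1
    rw [t.centralizer_eq hx hx1, hAM]
  have hdvd : Nat.card M ∣ Nat.card A - 1 := by
    have := Fintype.ofFinite A
    let : MulAction M {a : A // a ≠ 1} :=
      { smul := fun x a => ⟨⟨(x : G) * a.1 * (x : G)⁻¹, hAn.conj_mem _ a.1.2 x⟩,
          fun e => a.2 (Subtype.ext (conj_eq_one_iff.1 (congrArg Subtype.val e :)))⟩
        one_smul := fun a => Subtype.ext (Subtype.ext
          (show ((1 : M) : G) * a.1 * ((1 : M) : G)⁻¹ = a.1 by simp))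
        mul_smul := fun x w a => Subtype.ext (Subtype.ext
          (show ((x * w : M) : G) * a.1 * ((x * w : M) : G)⁻¹ =
            (x : G) * ((w : G) * a.1 * (w : G)⁻¹) * (x : G)⁻¹ by simp [mul_assoc])) }
    have hstab : ∀ a : {a : A // a ≠ 1}, stabilizer M a = ⊥ := by
      refine fun a => (Subgroup.eq_bot_iff_forall _).2 fun x hx => ?_
      have e : (x : G) * a.1 * (x : G)⁻¹ = a.1 :=
        congrArg Subtype.val (congrArg Subtype.val (mem_stabilizer_iff.1 hx))
      by_contra hx1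
      have hm0 : (a.1 : G) ∈ A ⊓ Subgroup.centralizer ({(x : G)} : Set G) :=
        ⟨a.1.2, Subgroup.mem_centralizer_singleton_iff.2 (mul_inv_eq_iff_eq_mul.1 e).symm⟩
      rw [hfpf x x.2 (fun e' => hx1 (Subtype.ext e')), Subgroup.mem_bot] at hm0
      exact a.2 (Subtype.ext hm0)
    have h1 := Nat.card_congr (selfEquivOrbitsQuotientProd hstab)
    rw [Nat.card_prod, Nat.card_eq_fintype_card (α := {a : A // a ≠ 1}), Fintype.card_subtype_compl,
      Fintype.card_subtype_eq, ← Nat.card_eq_fintype_card] at h1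
    exact Dvd.intro_left _ h1.symm
  have hj1 : 1 ≤ j := by
    rcases j with _ | j
    · exact absurd (A.eq_bot_of_card_eq (by simpa using hj)) hA1
    · omega
  have hj2 : j ≤ 2 * d + 1 := by
    have h1 := Subgroup.card_subgroup_dvd_card A
    rw [hG, hj] at h1
    exact (Nat.pow_dvd_pow_iff_le_right (by norm_num)).1
      (Nat.Coprime.dvd_of_dvd_mul_right ((Nat.coprime_two_left.2 hModd).pow_left _) h1)
  rw [hj, hm'] at hdvd
  have hjd : j = 2 * d := dvd_arith (by omega) hj1 hj2 hdvd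
  have hAN : A ⊓ N = ⊥ := by
    refine (Subgroup.eq_bot_iff_forall _).2 fun x hx => ?_
    by_contra hx1
    have hxo : orderOf x = 2 := orderOf_eq_prime (hAexp x hx.1) hx1
    have h1 : y * x * y⁻¹ * x⁻¹ ∈ A := mul_mem (hAn.conj_mem x hx.1 y) (inv_mem hx.1)
    have e : y * x * y⁻¹ * x⁻¹ = y * y := by
      rw [mul_assoc (y * x), mul_assoc y, ← mul_assoc x, t.hyp.inverts hxo hx.2 (inv_mem hy),
        inv_inv]
    have h2 : y * y ∈ A ⊓ M := ⟨e ▸ h1, mul_mem hy hy⟩
    rw [hAM, Subgroup.mem_bot] at h2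
    exact hy1' (t.hyp.eq_one_of_sq hy h2)
  have hcN : Nat.card N = 2 * (2 ^ d + 1) := by
    rw [t.hyp.card_normalizer, hm', t.card_D, mul_comm]
  have hsup : A ⊔ N = ⊤ := (Subgroup.isComplement'_of_card_mul_and_disjoint
    (by rw [hj, hjd, hcN, hG, pow_succ]; ring) (disjoint_iff.2 hAN)).sup_eq_top
  have hcyc : IsCyclic M := by
    have hMnil : Group.IsNilpotent M :=
      let _ : CommGroup M := { mul_comm := fun a b => Subtype.ext (t.hyp.comm a.2 b.2) }
      inferInstance
    exact (CNGroup.Solvable.isCyclic_of_fpf_action hA1 hAM hfpf).2 hMnil (hm' ▸ hModd)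
  refine ⟨d, A, by omega, hAn, ⟨hAab, hAexp⟩, by rw [hj, hjd], hAN, hsup, ?_⟩
  obtain ⟨a, ha⟩ := hcyc.exists_generator
  have : NeZero (2 ^ d + 1) := ⟨by omega⟩
  have hao : orderOf (a : G) = 2 ^ d + 1 := by
    rw [Subgroup.orderOf_coe, orderOf_eq_card_of_forall_mem_zpowers ha, hm']
  refine PGroups.nonempty_dihedral_equiv (a := (⟨a, t.hyp.le_N a.2⟩ : N))
    (x := (⟨z, t.hyp.hzN⟩ : N)) (by rw [Subgroup.orderOf_mk, hao])
    (Subtype.ext (by simpa [pow_two] using t.hyp.z_sq))
    (Subtype.ext (t.hyp.inverts t.hyp.hz t.hyp.hzN a.2)) (fun hm0 => ?_) hcN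
  obtain ⟨k, hk⟩ := Subgroup.mem_zpowers_iff.1 hm0
  have hzM : z ∈ M := by
    have h1 := congrArg Subtype.val hk
    simp only [SubgroupClass.coe_zpow] at h1
    exact h1 ▸ zpow_mem a.2 k
  exact (invol_iff.1 t.hyp.hz).2 (t.hyp.eq_one_of_sq hzM t.hyp.z_sq)

end Cfsg.Agent.Lib.TICount
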